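import Mathlib

/-!
The arithmetic of the exceptional characters: the character common to the two mixed differences has
degree one.
-/

set_option autoImplicit false
set_option linter.style.haveILetI false
set_option linter.unusedVariables false

namespace Cfsg.Agent.Fus.NineDihedral

/-- A signed column: degree, values at the two involutions and the four coefficients. -/
structure Col where
  e : ℤ
  f : ℤ
  g : ℤ
  a : ℤ
  b : ℤ
  c : ℤ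
  d : ℤ

/-- The congruences satisfied by a column. -/
structure Col.Ok (v : Col) : Prop where
  nine : (9 : ℤ) ∣ v.e + 4 * (v.a + v.b + v.c + v.d)
  mod_u : (3 : ℤ) ∣ v.f - (v.a - v.b)
  mod_v : (3 : ℤ) ∣ v.g - (v.c - v.d)

/-- Change of sign. -/
def Col.scale (s : ℤ) (v : Col) : Col := ⟨s * v.e, s * v.f, s * v.g, s * v.a, s * v.b, s * v.c, s * v.d⟩

theorem Col.Ok.scale {v : Col} (h : v.Ok) (s : ℤ) : (v.scale s).Ok := by
  refine ⟨?_, ?_, ?_⟩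
  · show (9 : ℤ) ∣ s * v.e + 4 * (s * v.a + s * v.b + s * v.c + s * v.d)
    rw [show s * v.e + 4 * (s * v.a + s * v.b + s * v.c + s * v.d) = s * (v.e + 4 * (v.a + v.b + v.c + v.d)) by ring]
    exact h.nine.mul_left s
  · show (3 : ℤ) ∣ s * v.f - (s * v.a - s * v.b)
    rw [show s * v.f - (s * v.a - s * v.b) = s * (v.f - (v.a - v.b)) by ring]
    exact h.mod_u.mul_left s
  · show (3 : ℤ) ∣ s * v.g - (s * v.c - s * v.d)
    rw [show s * v.g - (s * v.c - s * v.d) = s * (v.g - (v.c - v.d)) by ring]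
    exact h.mod_v.mul_left s

/-- A symmetric bilinear form in two variables. -/
structure Form where
  p : ℚ
  q : ℚ
  r : ℚ

/-- Evaluation. -/
def Form.bil (F : Form) (X Y X' Y' : ℚ) : ℚ := F.p * X * X' + F.q * (X * Y' + X' * Y) + F.r * Y * Y'

theorem dual_aux {e₁ e₂ e₃ s x₁ x₂ x₃ y₁ y₂ y₃ : ℚ} (h₁ : e₁ ≠ 0) (h₂ : e₂ ≠ 0) (h₃ : e₃ ≠ 0) (hs0 : s ≠ 0)
    (hs : e₁ + e₂ + e₃ = s) (hx : x₁ + x₂ + x₃ = 0) (hy : y₁ + y₂ + y₃ = 0)
    {G₁₁ G₁₂ G₂₂ : ℚ} (h11 : x₁ * x₁ / e₁ + x₂ * x₂ / e₂ + x₃ * x₃ / e₃ = G₁₁)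
    (h12 : x₁ * y₁ / e₁ + x₂ * y₂ / e₂ + x₃ * y₃ / e₃ = G₁₂)
    (h22 : y₁ * y₁ / e₁ + y₂ * y₂ / e₂ + y₃ * y₃ / e₃ = G₂₂) :
    G₂₂ * x₁ * x₁ - G₁₂ * (x₁ * y₁ + x₁ * y₁) + G₁₁ * y₁ * y₁ =
        (G₁₁ * G₂₂ - G₁₂ * G₁₂) * (e₁ - e₁ * e₁ / s) ∧
      G₂₂ * x₁ * x₂ - G₁₂ * (x₁ * y₂ + x₂ * y₁) + G₁₁ * y₁ * y₂ =
        (G₁₁ * G₂₂ - G₁₂ * G₁₂) * (-(e₁ * e₂ / s)) := by
  subst h11 h12 h22
  obtain rfl : x₃ = -x₁ - x₂ := by linarith
  obtain rfl : y₃ = -y₁ - y₂ := by linarith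
  subst hs
  constructor <;> field_simp <;> ring

/-- Three members with prescribed sums of products: the dual form. -/
theorem dual_three {K det g₁₁ g₁₂ g₂₂ : ℚ} (F : Form) (hK : K ≠ 0) (hdet : det ≠ 0)
    (hd : g₁₁ * g₂₂ - g₁₂ * g₁₂ = det) (hp : g₂₂ = F.p * det) (hq : -g₁₂ = F.q * det) (hr : g₁₁ = F.r * det)
    {e₁ e₂ e₃ s x₁ x₂ x₃ y₁ y₂ y₃ : ℚ} (h₁ : e₁ ≠ 0) (h₂ : e₂ ≠ 0) (h₃ : e₃ ≠ 0) (hs0 : s ≠ 0)
    (hs : e₁ + e₂ + e₃ = s) (hx : x₁ + x₂ + x₃ = 0) (hy : y₁ + y₂ + y₃ = 0)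
    (h11 : x₁ * x₁ / e₁ + x₂ * x₂ / e₂ + x₃ * x₃ / e₃ = g₁₁ / K)
    (h12 : x₁ * y₁ / e₁ + x₂ * y₂ / e₂ + x₃ * y₃ / e₃ = g₁₂ / K)
    (h22 : y₁ * y₁ / e₁ + y₂ * y₂ / e₂ + y₃ * y₃ / e₃ = g₂₂ / K) :
    K * F.bil x₁ y₁ x₁ y₁ = e₁ - e₁ * e₁ / s ∧ K * F.bil x₁ y₁ x₂ y₂ = -(e₁ * e₂ / s) := by
  obtain ⟨ha, hb⟩ := dual_aux h₁ h₂ h₃ hs0 hs hx hy h11 h12 h22
  have hdetK : g₁₁ / K * (g₂₂ / K) - g₁₂ / K * (g₁₂ / K) = det / (K * K) := by
    rw [← hd]; field_simp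
  rw [hdetK] at ha hb
  have hK2 : det / (K * K) ≠ 0 := div_ne_zero hdet (mul_ne_zero hK hK)
  constructor
  · refine mul_left_cancel₀ hK2 (Eq.trans ?_ ha)
    rw [hp, hr, show g₁₂ = -(F.q * det) by linarith, Form.bil]
    field_simp
    ring
  · refine mul_left_cancel₀ hK2 (Eq.trans ?_ hb)
    rw [hp, hr, show g₁₂ = -(F.q * det) by linarith, Form.bil]
    field_simp
    ring

/-- Removing the translation from four members. -/
theorem translate {e₀ e₁ e₂ e₃ x₀ x₁ x₂ x₃ y₀ y₁ y₂ y₃ : ℚ} (h₀ : e₀ ≠ 0) (h₁ : e₁ ≠ 0) (h₂ : e₂ ≠ 0)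
    (h₃ : e₃ ≠ 0) (he : e₀ + e₁ + e₂ + e₃ = 0) (hx : x₀ + x₁ + x₂ + x₃ = 0) (hy : y₀ + y₁ + y₂ + y₃ = 0) :
    x₀ * y₀ / e₀ + x₁ * y₁ / e₁ + x₂ * y₂ / e₂ + x₃ * y₃ / e₃ =
      (x₁ - e₁ / e₀ * x₀) * (y₁ - e₁ / e₀ * y₀) / e₁ + (x₂ - e₂ / e₀ * x₀) * (y₂ - e₂ / e₀ * y₀) / e₂ +
        (x₃ - e₃ / e₀ * x₀) * (y₃ - e₃ / e₀ * y₀) / e₃ := by
  obtain rfl : x₀ = -x₁ - x₂ - x₃ := by linarith
  obtain rfl : y₀ = -y₁ - y₂ - y₃ := by linarith
  obtain rfl : e₀ = -e₁ - e₂ - e₃ := by linarith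
  field_simp
  ring

/-- The identity forcing degree one. -/
theorem degree_one {K P eb ec Yp Vb Vc : ℚ} (hP : P ≠ 0) (hb : eb ≠ 0) (hc : ec ≠ 0)
    (hp : K * (3 * (Yp * Yp)) = P + P * P) (hbp : K * (Vb * Yp) = -eb)
    (hbc : K * (-(Vb * Vc)) = eb * ec / P) (hcc : K * (3 * (Vc * Vc)) = ec + ec * ec / P) : ec = 1 := by
  have hV : K * Vb ≠ 0 := fun e => hb (by linear_combination hbp - Yp * e)
  have h1 : Vc = ec * Yp / P := by
    refine mul_left_cancel₀ hV ?_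
    have h' : K * (-(Vb * Vc)) * P = eb * ec := by rw [hbc, div_mul_cancel₀ _ hP]
    rw [mul_div_assoc', eq_div_iff hP]
    linear_combination -h' - ec * hbp
  rw [h1] at hcc
  field_simp at hcc
  have h2 : P * (P * (ec - 1)) = 0 := by
    linear_combination hcc - ec * hp
  simpa [hP, sub_eq_zero] using h2

section Mod

theorem cast_sub_eq_zero {a b : ℤ} (h : (3 : ℤ) ∣ a - b) : (a : ZMod 3) = b := by
  rw [← sub_eq_zero, ← Int.cast_sub, ZMod.intCast_zmod_eq_zero_iff_dvd]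
  exact h

theorem col_mods {v : Col} (h : v.Ok) :
    (v.e : ZMod 3) = 2 * ((v.a : ZMod 3) + v.b + v.c + v.d) ∧
      ((v.f - v.e : ℤ) : ZMod 3) = 2 * (v.a : ZMod 3) + v.c + v.d ∧
      ((v.g - v.e : ℤ) : ZMod 3) = 2 * (v.c : ZMod 3) + v.a + v.b := by
  have he := cast_sub_eq_zero (a := v.e) (b := -(4 * (v.a + v.b + v.c + v.d))) (by
    rw [sub_neg_eq_add]; exact (by norm_num : (3 : ℤ) ∣ 9).trans h.nine)
  have hf := cast_sub_eq_zero h.mod_u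
  have hg := cast_sub_eq_zero h.mod_v
  push_cast at he hf hg ⊢
  have h3 : (3 : ZMod 3) = 0 := rfl
  have h4 : (4 : ZMod 3) = 1 := rfl
  rw [h4, one_mul] at he
  refine ⟨?_, ?_, ?_⟩
  · rw [he]; linear_combination (-(v.a : ZMod 3) - v.b - v.c - v.d) * h3
  · rw [hf, he]; linear_combination (0 : ZMod 3) * h3
  · rw [hg, he]; linear_combination (0 : ZMod 3) * h3

theorem small_zero {b : ℤ} (h1 : -2 ≤ b) (h2 : b ≤ 2) (h : (b : ZMod 3) = 0) : b = 0 := by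
  have := (ZMod.intCast_zmod_eq_zero_iff_dvd b 3).mp h
  omega

end Mod

/-- The two admissible tables of sums. -/
inductive Case
  | distinct
  | fused

/-- The dual forms of the four functions. -/
def Case.form : Case → Fin 4 → Form
  | .distinct, 0 => ⟨2, 0, 1⟩
  | .distinct, 1 => ⟨2, 0, 1⟩
  | .distinct, 2 => ⟨1, 0, 2⟩
  | .distinct, 3 => ⟨1, 0, 2⟩
  | .fused, 0 => ⟨1 / 8, 0, 1⟩
  | .fused, 1 => ⟨1 / 2, 0, 1⟩
  | .fused, 2 => ⟨1, -3, 11⟩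
  | .fused, 3 => ⟨1, 3, 11⟩

/-- The sums themselves. -/
def Case.gram : Case → Fin 4 → ℚ × ℚ × ℚ
  | .distinct, 0 => (1 / 2, 0, 1)
  | .distinct, 1 => (1 / 2, 0, 1)
  | .distinct, 2 => (1, 0, 1 / 2)
  | .distinct, 3 => (1, 0, 1 / 2)
  | .fused, 0 => (8, 0, 1)
  | .fused, 1 => (2, 0, 1)
  | .fused, 2 => (11 / 2, 3 / 2, 1 / 2)
  | .fused, 3 => (11 / 2, -3 / 2, 1 / 2)

theorem Case.dual (t : Case) (i : Fin 4) {K : ℚ} (hK : K ≠ 0)
    {e₁ e₂ e₃ s x₁ x₂ x₃ y₁ y₂ y₃ : ℚ} (h₁ : e₁ ≠ 0) (h₂ : e₂ ≠ 0) (h₃ : e₃ ≠ 0) (hs0 : s ≠ 0)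
    (hs : e₁ + e₂ + e₃ = s) (hx : x₁ + x₂ + x₃ = 0) (hy : y₁ + y₂ + y₃ = 0)
    (h11 : x₁ * x₁ / e₁ + x₂ * x₂ / e₂ + x₃ * x₃ / e₃ = (t.gram i).1 / K)
    (h12 : x₁ * y₁ / e₁ + x₂ * y₂ / e₂ + x₃ * y₃ / e₃ = (t.gram i).2.1 / K)
    (h22 : y₁ * y₁ / e₁ + y₂ * y₂ / e₂ + y₃ * y₃ / e₃ = (t.gram i).2.2 / K) :
    K * (t.form i).bil x₁ y₁ x₁ y₁ = e₁ - e₁ * e₁ / s ∧
      K * (t.form i).bil x₁ y₁ x₂ y₂ = -(e₁ * e₂ / s) := by
  set det := (t.gram i).1 * (t.gram i).2.2 - (t.gram i).2.1 * (t.gram i).2.1 with hdet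
  refine dual_three (t.form i) hK (det := det) ?_ hdet.symm ?_ ?_ ?_ h₁ h₂ h₃ hs0 hs hx hy h11 h12 h22
  all_goals (rw [hdet]; cases t <;> fin_cases i <;> norm_num [Case.gram, Case.form])

/-- The numerical data: two orders of centralizers divided by three and a ninth of the group order. -/
structure Scale where
  k₁ : ℤ
  k₂ : ℤ
  K : ℤ
  mod₁ : (k₁ : ZMod 3) = 1
  mod₂ : (k₂ : ZMod 3) = 1
  modK : (K : ZMod 3) = 2

namespace Scale

variable (σ : Scale)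

theorem ne₁ : (σ.k₁ : ℚ) ≠ 0 := by
  intro h
  have := σ.mod₁
  rw [Int.cast_eq_zero.mp h, Int.cast_zero] at this
  exact absurd this (by decide)

theorem ne₂ : (σ.k₂ : ℚ) ≠ 0 := by
  intro h
  have := σ.mod₂
  rw [Int.cast_eq_zero.mp h, Int.cast_zero] at this
  exact absurd this (by decide)

theorem neK : (σ.K : ℚ) ≠ 0 := by
  intro h
  have := σ.modK
  rw [Int.cast_eq_zero.mp h, Int.cast_zero] at this
  exact absurd this (by decide)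

/-- The first scaled coordinate. -/
def X (v : Col) : ℚ := ((v.f - v.e : ℤ) : ℚ) / σ.k₁

/-- The second scaled coordinate. -/
def Y (v : Col) : ℚ := ((v.g - v.e : ℤ) : ℚ) / σ.k₂

theorem modA (t : Case) (v : Col)
    (h : (σ.K : ℚ) * (t.form 0).bil (σ.X v) (σ.Y v) (σ.X v) (σ.Y v) = (v.e : ℚ) + v.e * v.e) :
    (v.e : ZMod 3) + v.e * v.e =
      ((v.f - v.e : ℤ) : ZMod 3) * (v.f - v.e : ℤ) + 2 * ((v.g - v.e : ℤ) * (v.g - v.e : ℤ)) := by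
  have h1 := σ.ne₁
  have h2 := σ.ne₂
  simp only [X, Y] at h
  revert h
  generalize v.f - v.e = x
  generalize v.g - v.e = y
  intro h
  cases t <;> simp only [Case.form, Form.bil, zero_mul, add_zero] at h <;> field_simp at h
  · have hz : σ.K * (2 * x ^ 2 * σ.k₂ ^ 2 + σ.k₁ ^ 2 * y ^ 2) = v.e * σ.k₁ ^ 2 * σ.k₂ ^ 2 * (1 + v.e) := by
      exact_mod_cast (show (σ.K : ℚ) * (2 * (x : ℚ) ^ 2 * σ.k₂ ^ 2 + (σ.k₁ : ℚ) ^ 2 * (y : ℚ) ^ 2) =
        (v.e : ℚ) * σ.k₁ ^ 2 * σ.k₂ ^ 2 * (1 + v.e) by linear_combination h)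
    have h3 := congrArg (Int.cast : ℤ → ZMod 3) hz
    push_cast [σ.mod₁, σ.mod₂, σ.modK] at h3
    have h30 : (3 : ZMod 3) = 0 := rfl
    linear_combination -h3 + ((x : ZMod 3) * x) * h30
  · have hz : σ.K * (x ^ 2 * σ.k₂ ^ 2 + 8 * σ.k₁ ^ 2 * y ^ 2) = 8 * (v.e * σ.k₁ ^ 2 * σ.k₂ ^ 2 * (1 + v.e)) := by
      exact_mod_cast (show (σ.K : ℚ) * ((x : ℚ) ^ 2 * σ.k₂ ^ 2 + 8 * (σ.k₁ : ℚ) ^ 2 * (y : ℚ) ^ 2) =
        8 * ((v.e : ℚ) * σ.k₁ ^ 2 * σ.k₂ ^ 2 * (1 + v.e)) by linear_combination h)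
    have h3 := congrArg (Int.cast : ℤ → ZMod 3) hz
    push_cast [σ.mod₁, σ.mod₂, σ.modK] at h3
    have h30 : (3 : ZMod 3) = 0 := rfl
    have h8 : (8 : ZMod 3) = 2 := rfl
    rw [h8] at h3
    linear_combination h3 + ((v.e : ZMod 3) + v.e * v.e - x * x - 2 * ((y : ZMod 3) * y)) * h30

theorem modC (t : Case) (v : Col)
    (h : (σ.K : ℚ) * (t.form 2).bil (σ.X v) (σ.Y v) (σ.X v) (σ.Y v) = (v.e : ℚ) + v.e * v.e) :
    (v.e : ZMod 3) + v.e * v.e =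
      2 * (((v.f - v.e : ℤ) : ZMod 3) * (v.f - v.e : ℤ)) + (v.g - v.e : ℤ) * (v.g - v.e : ℤ) := by
  have h1 := σ.ne₁
  have h2 := σ.ne₂
  simp only [X, Y] at h
  revert h
  generalize v.f - v.e = x
  generalize v.g - v.e = y
  intro h
  cases t <;> simp only [Case.form, Form.bil, zero_mul, add_zero] at h <;> field_simp at h
  · have hz : σ.K * (x ^ 2 * σ.k₂ ^ 2 + σ.k₁ ^ 2 * y ^ 2 * 2) = v.e * σ.k₁ ^ 2 * σ.k₂ ^ 2 * (1 + v.e) := by
      exact_mod_cast (show (σ.K : ℚ) * ((x : ℚ) ^ 2 * σ.k₂ ^ 2 + (σ.k₁ : ℚ) ^ 2 * (y : ℚ) ^ 2 * 2) =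
        (v.e : ℚ) * σ.k₁ ^ 2 * σ.k₂ ^ 2 * (1 + v.e) by linear_combination h)
    have h3 := congrArg (Int.cast : ℤ → ZMod 3) hz
    push_cast [σ.mod₁, σ.mod₂, σ.modK] at h3
    have h30 : (3 : ZMod 3) = 0 := rfl
    linear_combination -h3 + ((y : ZMod 3) * y) * h30
  · have hz : σ.K * (x ^ 2 * σ.k₂ ^ 2 - 6 * (x * y * σ.k₁ * σ.k₂) + 11 * σ.k₁ ^ 2 * y ^ 2) =
        v.e * σ.k₁ ^ 2 * σ.k₂ ^ 2 * (1 + v.e) := by
      exact_mod_cast (show (σ.K : ℚ) * ((x : ℚ) ^ 2 * σ.k₂ ^ 2 - 6 * (x * y * σ.k₁ * σ.k₂) +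
        11 * (σ.k₁ : ℚ) ^ 2 * (y : ℚ) ^ 2) = (v.e : ℚ) * σ.k₁ ^ 2 * σ.k₂ ^ 2 * (1 + v.e) by linear_combination h)
    have h3 := congrArg (Int.cast : ℤ → ZMod 3) hz
    push_cast [σ.mod₁, σ.mod₂, σ.modK] at h3
    have h30 : (3 : ZMod 3) = 0 := rfl
    linear_combination -h3 + (7 * ((y : ZMod 3) * y) - 4 * ((x : ZMod 3) * y)) * h30

/-- A member of the first family lying outside the second. -/
theorem colA (t : Case) (v : Col) (hv : v.Ok) (ha : v.a = 1) (hc : v.c = 0) (hb1 : -1 ≤ v.b) (hb2 : v.b ≤ 1)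
    (hd1 : -1 ≤ v.d) (hd2 : v.d ≤ 1)
    (h : (σ.K : ℚ) * (t.form 0).bil (σ.X v) (σ.Y v) (σ.X v) (σ.Y v) = (v.e : ℚ) + v.e * v.e) :
    v.b = 0 ∨ v.b + v.d = 0 := by
  have h3 := σ.modA t v h
  obtain ⟨he, hx, hy⟩ := col_mods hv
  rw [he, hx, hy, ha, hc] at h3
  push_cast at h3
  have key : ∀ b d : ZMod 3, 2 * (1 + b + 0 + d) + 2 * (1 + b + 0 + d) * (2 * (1 + b + 0 + d)) =
      (2 * 1 + 0 + d) * (2 * 1 + 0 + d) + 2 * ((2 * 0 + 1 + b) * (2 * 0 + 1 + b)) → b = 0 ∨ b + d = 0 := by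
    decide
  rcases key _ _ h3 with h | h
  · exact Or.inl (small_zero (by omega) (by omega) h)
  · exact Or.inr (small_zero (by omega) (by omega) (by push_cast; exact h))

/-- A member of the second family lying outside the first. -/
theorem colC (t : Case) (v : Col) (hv : v.Ok) (ha : v.a = 0) (hc : v.c = 1) (hb1 : -1 ≤ v.b) (hb2 : v.b ≤ 1)
    (hd1 : -1 ≤ v.d) (hd2 : v.d ≤ 1)
    (h : (σ.K : ℚ) * (t.form 2).bil (σ.X v) (σ.Y v) (σ.X v) (σ.Y v) = (v.e : ℚ) + v.e * v.e) :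
    v.d = 0 ∨ v.b + v.d = 0 := by
  have h3 := σ.modC t v h
  obtain ⟨he, hx, hy⟩ := col_mods hv
  rw [he, hx, hy, ha, hc] at h3
  push_cast at h3
  have key : ∀ b d : ZMod 3, 2 * (0 + b + 1 + d) + 2 * (0 + b + 1 + d) * (2 * (0 + b + 1 + d)) =
      2 * ((2 * 0 + 1 + d) * (2 * 0 + 1 + d)) + (2 * 1 + 0 + b) * (2 * 1 + 0 + b) → d = 0 ∨ b + d = 0 := by
    decide
  rcases key _ _ h3 with h | h
  · exact Or.inl (small_zero (by omega) (by omega) h)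
  · exact Or.inr (small_zero (by omega) (by omega) (by push_cast; exact h))

/-- The ratio of the coordinates of the common member. -/
def kappa : Case → ℚ
  | .distinct => 1
  | .fused => 4

/-- The common member of the two families lies in all four. -/
theorem colP (t : Case) (v : Col) (hv : v.Ok) (ha : v.a = 1) (hc : v.c = 1) (hb1 : -1 ≤ v.b) (hb2 : v.b ≤ 1)
    (hd1 : -1 ≤ v.d) (hd2 : v.d ≤ 1)
    (hA : (σ.K : ℚ) * (t.form 0).bil (σ.X v) (σ.Y v) (σ.X v) (σ.Y v) = (v.e : ℚ) + v.e * v.e)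
    (hC : (σ.K : ℚ) * (t.form 2).bil (σ.X v) (σ.Y v) (σ.X v) (σ.Y v) = (v.e : ℚ) + v.e * v.e) :
    v.b = 1 ∧ v.d = 1 ∧ σ.X v = kappa t * σ.Y v := by
  have h3 := σ.modA t v hA
  have h4 := σ.modC t v hC
  obtain ⟨he, hx, hy⟩ := col_mods hv
  rw [he, hx, hy, ha, hc] at h3 h4
  push_cast at h3 h4
  have key : ∀ b d : ZMod 3, 2 * (1 + b + 1 + d) + 2 * (1 + b + 1 + d) * (2 * (1 + b + 1 + d)) =
      (2 * 1 + 1 + d) * (2 * 1 + 1 + d) + 2 * ((2 * 1 + 1 + b) * (2 * 1 + 1 + b)) →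
      2 * (1 + b + 1 + d) + 2 * (1 + b + 1 + d) * (2 * (1 + b + 1 + d)) =
      2 * ((2 * 1 + 1 + d) * (2 * 1 + 1 + d)) + (2 * 1 + 1 + b) * (2 * 1 + 1 + b) → b = d ∧ b ≠ 0 := by
    decide
  obtain ⟨hbd, hb0⟩ := key _ _ h3 h4
  have hbd' : v.b = v.d := sub_eq_zero.mp (small_zero (by omega) (by omega) (by push_cast; rw [hbd, sub_self]))
  have h30 : (3 : ZMod 3) = 0 := rfl
  have hx' : ((v.f - v.e : ℤ) : ZMod 3) = v.d := by
    rw [hx, ha, hc]; push_cast; linear_combination h30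
  have hy' : ((v.g - v.e : ℤ) : ZMod 3) = v.b := by
    rw [hy, ha, hc]; push_cast; linear_combination h30
  have hratio : σ.X v = kappa t * σ.Y v := by
    have h1 := σ.ne₁
    have h2 := σ.ne₂
    have hK := σ.neK
    have heq := mul_left_cancel₀ hK (hA.trans hC.symm)
    simp only [X, Y] at heq ⊢
    revert heq hx' hy'
    generalize v.f - v.e = x
    generalize v.g - v.e = y
    intro hx' hy' heq
    cases t <;> simp only [Case.form, Form.bil, kappa, zero_mul, add_zero] at heq ⊢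
    · have hz : (x * σ.k₂ - y * σ.k₁) * (x * σ.k₂ + y * σ.k₁) = 0 := by
        field_simp at heq
        exact_mod_cast (show (((x : ℚ) * σ.k₂ - y * σ.k₁) * (x * σ.k₂ + y * σ.k₁)) = 0 by linear_combination heq)
      rcases mul_eq_zero.mp hz with h | h
      · have h' : (x : ℚ) * σ.k₂ - y * σ.k₁ = 0 := by exact_mod_cast h
        field_simp
        linear_combination h'
      · exfalso
        have h' := congrArg (Int.cast : ℤ → ZMod 3) h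
        push_cast [σ.mod₁, σ.mod₂] at h'
        rw [hx', hy', hbd] at h'
        rw [hbd] at hb0
        exact hb0 (by revert h' hb0; generalize (v.d : ZMod 3) = z; revert z; decide)
    · have hz : (7 * x * σ.k₂ - 20 * y * σ.k₁) * (x * σ.k₂ - 4 * y * σ.k₁) = 0 := by
        field_simp at heq
        exact_mod_cast (show ((7 * (x : ℚ) * σ.k₂ - 20 * y * σ.k₁) * (x * σ.k₂ - 4 * y * σ.k₁)) = 0 by
          linear_combination -heq)
      rcases mul_eq_zero.mp hz with h | h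
      · exfalso
        have h' := congrArg (Int.cast : ℤ → ZMod 3) h
        push_cast [σ.mod₁, σ.mod₂] at h'
        rw [hx', hy', hbd] at h'
        rw [hbd] at hb0
        exact hb0 (by revert h' hb0; generalize (v.d : ZMod 3) = z; revert z; decide)
      · have h' : (x : ℚ) * σ.k₂ - 4 * y * σ.k₁ = 0 := by exact_mod_cast h
        field_simp
        linear_combination h'
  refine ⟨?_, ?_, hratio⟩ <;> by_contra hne
  all_goals
    have hb0' : v.b ≠ 0 := fun e => hb0 (by rw [e, Int.cast_zero])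
    have hbn : v.b = -1 := by omega
    have he9 : (9 : ℤ) ∣ v.e := by
      have := hv.nine
      rw [ha, hc, ← hbd', hbn] at this
      simpa using this
    have h2 := σ.ne₂
    rw [hratio] at hA
    have hz : σ.K * 3 * (v.g - v.e) ^ 2 = σ.k₂ ^ 2 * (v.e + v.e * v.e) := by
      simp only [Y] at hA
      revert hA
      generalize v.g - v.e = y
      intro hA
      cases t <;> simp only [Case.form, Form.bil, kappa, zero_mul, add_zero] at hA <;> field_simp at hA <;>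
        exact_mod_cast (show (σ.K : ℚ) * 3 * (y : ℚ) ^ 2 = (σ.k₂ : ℚ) ^ 2 * (v.e + v.e * v.e) by
          first | linear_combination hA | linear_combination (1 / 8 : ℚ) * hA)
    obtain ⟨l, hl⟩ := he9
    have h9 : (3 : ℤ) ∣ σ.K * (v.g - v.e) ^ 2 := ⟨σ.k₂ ^ 2 * (l + 9 * l * l), by
      rw [hl] at hz ⊢
      linear_combination (Int.eq_of_mul_eq_mul_left (a := 3) (by norm_num)
        (show 3 * (σ.K * (v.g - 9 * l) ^ 2) = 3 * (3 * (σ.k₂ ^ 2 * (l + 9 * l * l))) by linear_combination hz))⟩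
    have h9' := (ZMod.intCast_zmod_eq_zero_iff_dvd _ 3).mpr h9
    push_cast [σ.modK] at h9'
    push_cast at hy'
    rw [hy', hbn] at h9'
    exact absurd h9' (by decide)

/-- Coordinates relative to the common member. -/
def WX (p v : Col) : ℚ := σ.X v - (v.e : ℚ) / p.e * σ.X p

/-- Coordinates relative to the common member. -/
def WY (p v : Col) : ℚ := σ.Y v - (v.e : ℚ) / p.e * σ.Y p

theorem mods_p {p : Col} (hp : p.Ok) (ha : p.a = 1) (hb : p.b = 1) (hc : p.c = 1) (hd : p.d = 1) :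
    (p.e : ZMod 3) = 2 ∧ ((p.f - p.e : ℤ) : ZMod 3) = 1 ∧ ((p.g - p.e : ℤ) : ZMod 3) = 1 := by
  obtain ⟨h1, h2, h3⟩ := col_mods hp
  rw [h1, h2, h3, ha, hb, hc, hd]
  exact ⟨rfl, rfl, rfl⟩

/-- The integer coordinates relative to the common member. -/
theorem W_eq (p v : Col) (hp : (p.e : ℚ) ≠ 0) :
    σ.WX p v = ((p.e * (v.f - v.e) - v.e * (p.f - p.e) : ℤ) : ℚ) / (p.e * σ.k₁) ∧
      σ.WY p v = ((p.e * (v.g - v.e) - v.e * (p.g - p.e) : ℤ) : ℚ) / (p.e * σ.k₂) := by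
  have h1 := σ.ne₁
  have h2 := σ.ne₂
  constructor
  · simp only [WX, X]; push_cast; field_simp
  · simp only [WY, Y]; push_cast; field_simp

/-- The ratio for the member shared with the second family. -/
def sigmaB : Case → ℚ
  | .distinct => -1
  | .fused => 2

/-- The ratio for the member shared by the two differences. -/
def tauC : Case → ℚ
  | .distinct => 1
  | .fused => -2

theorem branchB (t : Case) {p v : Col} (hp : p.Ok) (hpa : p.a = 1) (hpb : p.b = 1) (hpc : p.c = 1) (hpd : p.d = 1)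
    (hp0 : (p.e : ℚ) ≠ 0) (hv : v.Ok) (ha : v.a = 0) (hb : v.b = 1) (hc : v.c = 1) (hd : v.d = 0)
    (h : (t.form 1).bil (σ.WX p v) (σ.WY p v) (σ.WX p v) (σ.WY p v) =
      (t.form 2).bil (σ.WX p v) (σ.WY p v) (σ.WX p v) (σ.WY p v)) :
    σ.WX p v = sigmaB t * σ.WY p v := by
  obtain ⟨hep, hxp, hyp⟩ := mods_p hp hpa hpb hpc hpd
  obtain ⟨he, hx, hy⟩ := col_mods hv
  rw [ha, hb, hc, hd] at he
  rw [ha, hc, hd] at hx
  rw [ha, hb, hc] at hy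
  obtain ⟨e1, e2⟩ := σ.W_eq p v hp0
  have hU : ((p.e * (v.f - v.e) - v.e * (p.f - p.e) : ℤ) : ZMod 3) = 1 := by
    rw [Int.cast_sub, Int.cast_mul, Int.cast_mul, hep, hxp, hx, he]; rfl
  have hV : ((p.e * (v.g - v.e) - v.e * (p.g - p.e) : ℤ) : ZMod 3) = 2 := by
    rw [Int.cast_sub, Int.cast_mul, Int.cast_mul, hep, hyp, hy, he]; rfl
  rw [e1, e2] at h ⊢
  revert h hU hV
  generalize p.e * (v.f - v.e) - v.e * (p.f - p.e) = U
  generalize p.e * (v.g - v.e) - v.e * (p.g - p.e) = V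
  intro h hU hV
  have h1 := σ.ne₁
  have h2 := σ.ne₂
  cases t <;> simp only [Case.form, Form.bil, sigmaB, zero_mul, add_zero] at h ⊢
  · have hz : (U * σ.k₂ - V * σ.k₁) * (U * σ.k₂ + V * σ.k₁) = 0 := by
      field_simp at h
      exact_mod_cast (show (((U : ℚ) * σ.k₂ - V * σ.k₁) * (U * σ.k₂ + V * σ.k₁)) = 0 by linear_combination h)
    rcases mul_eq_zero.mp hz with h' | h'
    · exfalso
      have h'' := congrArg (Int.cast : ℤ → ZMod 3) h'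
      push_cast [σ.mod₁, σ.mod₂, hU, hV] at h''
      exact absurd h'' (by decide)
    · have h'' : (U : ℚ) * σ.k₂ + V * σ.k₁ = 0 := by exact_mod_cast h'
      field_simp
      linear_combination h''
  · have hz : (U * σ.k₂ - 10 * V * σ.k₁) * (U * σ.k₂ - 2 * V * σ.k₁) = 0 := by
      field_simp at h
      exact_mod_cast (show (((U : ℚ) * σ.k₂ - 10 * V * σ.k₁) * (U * σ.k₂ - 2 * V * σ.k₁)) = 0 by
        linear_combination -h)
    rcases mul_eq_zero.mp hz with h' | h'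
    · exfalso
      have h'' := congrArg (Int.cast : ℤ → ZMod 3) h'
      push_cast [σ.mod₁, σ.mod₂, hU, hV] at h''
      exact absurd h'' (by decide)
    · have h'' : (U : ℚ) * σ.k₂ - 2 * V * σ.k₁ = 0 := by exact_mod_cast h'
      field_simp
      linear_combination h''

theorem branchC (t : Case) {p v : Col} (hp : p.Ok) (hpa : p.a = 1) (hpb : p.b = 1) (hpc : p.c = 1) (hpd : p.d = 1)
    (hp0 : (p.e : ℚ) ≠ 0) (hv : v.Ok) (ha : v.a = 0) (hb : v.b = 1) (hc : v.c = 0) (hd : v.d = 1)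
    (h : (t.form 1).bil (σ.WX p v) (σ.WY p v) (σ.WX p v) (σ.WY p v) =
      (t.form 3).bil (σ.WX p v) (σ.WY p v) (σ.WX p v) (σ.WY p v)) :
    σ.WX p v = tauC t * σ.WY p v := by
  obtain ⟨hep, hxp, hyp⟩ := mods_p hp hpa hpb hpc hpd
  obtain ⟨he, hx, hy⟩ := col_mods hv
  rw [ha, hb, hc, hd] at he
  rw [ha, hc, hd] at hx
  rw [ha, hb, hc] at hy
  obtain ⟨e1, e2⟩ := σ.W_eq p v hp0
  have hU : ((p.e * (v.f - v.e) - v.e * (p.f - p.e) : ℤ) : ZMod 3) = 1 := by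
    rw [Int.cast_sub, Int.cast_mul, Int.cast_mul, hep, hxp, hx, he]; rfl
  have hV : ((p.e * (v.g - v.e) - v.e * (p.g - p.e) : ℤ) : ZMod 3) = 1 := by
    rw [Int.cast_sub, Int.cast_mul, Int.cast_mul, hep, hyp, hy, he]; rfl
  rw [e1, e2] at h ⊢
  revert h hU hV
  generalize p.e * (v.f - v.e) - v.e * (p.f - p.e) = U
  generalize p.e * (v.g - v.e) - v.e * (p.g - p.e) = V
  intro h hU hV
  have h1 := σ.ne₁
  have h2 := σ.ne₂
  cases t <;> simp only [Case.form, Form.bil, tauC, zero_mul, add_zero] at h ⊢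
  · have hz : (U * σ.k₂ - V * σ.k₁) * (U * σ.k₂ + V * σ.k₁) = 0 := by
      field_simp at h
      exact_mod_cast (show (((U : ℚ) * σ.k₂ - V * σ.k₁) * (U * σ.k₂ + V * σ.k₁)) = 0 by linear_combination h)
    rcases mul_eq_zero.mp hz with h' | h'
    · have h'' : (U : ℚ) * σ.k₂ - V * σ.k₁ = 0 := by exact_mod_cast h'
      field_simp
      linear_combination h''
    · exfalso
      have h'' := congrArg (Int.cast : ℤ → ZMod 3) h'
      push_cast [σ.mod₁, σ.mod₂, hU, hV] at h''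
      exact absurd h'' (by decide)
  · have hz : (U * σ.k₂ + 10 * V * σ.k₁) * (U * σ.k₂ + 2 * V * σ.k₁) = 0 := by
      field_simp at h
      exact_mod_cast (show (((U : ℚ) * σ.k₂ + 10 * V * σ.k₁) * (U * σ.k₂ + 2 * V * σ.k₁)) = 0 by
        linear_combination -h)
    rcases mul_eq_zero.mp hz with h' | h'
    · exfalso
      have h'' := congrArg (Int.cast : ℤ → ZMod 3) h'
      push_cast [σ.mod₁, σ.mod₂, hU, hV] at h''
      exact absurd h'' (by decide)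
    · have h'' : (U : ℚ) * σ.k₂ + 2 * V * σ.k₁ = 0 := by exact_mod_cast h'
      field_simp
      linear_combination h''

/-- The shared member of the two differences has degree one. -/
theorem conclude (t : Case) {p β γ : Col} (hp : p.Ok) (hpa : p.a = 1) (hpb : p.b = 1) (hpc : p.c = 1) (hpd : p.d = 1)
    (hβ : β.Ok) (hβa : β.a = 0) (hβb : β.b = 1) (hβc : β.c = 1) (hβd : β.d = 0)
    (hγ : γ.Ok) (hγa : γ.a = 0) (hγb : γ.b = 1) (hγc : γ.c = 0) (hγd : γ.d = 1)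
    (hp0 : (p.e : ℚ) ≠ 0) (hβ0 : (β.e : ℚ) ≠ 0) (hγ0 : (γ.e : ℚ) ≠ 0)
    (hratio : σ.X p = kappa t * σ.Y p)
    (hCp : (σ.K : ℚ) * (t.form 2).bil (σ.X p) (σ.Y p) (σ.X p) (σ.Y p) = (p.e : ℚ) + p.e * p.e)
    (hCb : (σ.K : ℚ) * (t.form 2).bil (σ.X β) (σ.Y β) (σ.X β) (σ.Y β) = (β.e : ℚ) + β.e * β.e)
    (hCbp : (σ.K : ℚ) * (t.form 2).bil (σ.X β) (σ.Y β) (σ.X p) (σ.Y p) = (β.e : ℚ) * p.e)
    (hBb : (σ.K : ℚ) * (t.form 1).bil (σ.WX p β) (σ.WY p β) (σ.WX p β) (σ.WY p β) = (β.e : ℚ) + β.e * β.e / p.e)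
    (hBc : (σ.K : ℚ) * (t.form 1).bil (σ.WX p γ) (σ.WY p γ) (σ.WX p γ) (σ.WY p γ) = (γ.e : ℚ) + γ.e * γ.e / p.e)
    (hBbc : (σ.K : ℚ) * (t.form 1).bil (σ.WX p β) (σ.WY p β) (σ.WX p γ) (σ.WY p γ) = (β.e : ℚ) * γ.e / p.e)
    (hDc : (σ.K : ℚ) * (t.form 3).bil (σ.WX p γ) (σ.WY p γ) (σ.WX p γ) (σ.WY p γ) = (γ.e : ℚ) + γ.e * γ.e / p.e) :
    γ.e = 1 := by
  have hK := σ.neK
  have hWp : (σ.K : ℚ) * (t.form 2).bil (σ.WX p β) (σ.WY p β) (σ.X p) (σ.Y p) = -(β.e : ℚ) := by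
    have : (σ.K : ℚ) * (t.form 2).bil (σ.WX p β) (σ.WY p β) (σ.X p) (σ.Y p) =
        (σ.K : ℚ) * (t.form 2).bil (σ.X β) (σ.Y β) (σ.X p) (σ.Y p) -
          (β.e : ℚ) / p.e * ((σ.K : ℚ) * (t.form 2).bil (σ.X p) (σ.Y p) (σ.X p) (σ.Y p)) := by
      simp only [WX, WY, Form.bil]; ring
    rw [this, hCbp, hCp]
    field_simp
    ring
  have hWW : (σ.K : ℚ) * (t.form 2).bil (σ.WX p β) (σ.WY p β) (σ.WX p β) (σ.WY p β) =
      (β.e : ℚ) + β.e * β.e / p.e := by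
    have : (σ.K : ℚ) * (t.form 2).bil (σ.WX p β) (σ.WY p β) (σ.WX p β) (σ.WY p β) =
        (σ.K : ℚ) * (t.form 2).bil (σ.X β) (σ.Y β) (σ.X β) (σ.Y β) -
          2 * ((β.e : ℚ) / p.e) * ((σ.K : ℚ) * (t.form 2).bil (σ.X β) (σ.Y β) (σ.X p) (σ.Y p)) +
          ((β.e : ℚ) / p.e) ^ 2 * ((σ.K : ℚ) * (t.form 2).bil (σ.X p) (σ.Y p) (σ.X p) (σ.Y p)) := by
      simp only [WX, WY, Form.bil]; ring
    rw [this, hCb, hCbp, hCp]
    field_simp
    ring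
  have rB := σ.branchB t hp hpa hpb hpc hpd hp0 hβ hβa hβb hβc hβd (mul_left_cancel₀ hK (hBb.trans hWW.symm))
  have rC := σ.branchC t hp hpa hpb hpc hpd hp0 hγ hγa hγb hγc hγd (mul_left_cancel₀ hK (hBc.trans hDc.symm))
  have hone : (γ.e : ℚ) = 1 := by
    refine degree_one (K := (σ.K : ℚ)) (Yp := σ.Y p) (Vb := σ.WY p β) (Vc := σ.WY p γ) hp0 hβ0 hγ0 ?_ ?_ ?_ ?_
    · rw [← hCp, hratio]; cases t <;> simp only [Case.form, Form.bil, kappa] <;> ring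
    · rw [← hWp, hratio, rB]; cases t <;> simp only [Case.form, Form.bil, kappa, sigmaB] <;> ring
    · rw [← hBbc, rB, rC]; cases t <;> simp only [Case.form, Form.bil, sigmaB, tauC] <;> ring
    · rw [← hBc, rC]; cases t <;> simp only [Case.form, Form.bil, tauC] <;> ring
  exact_mod_cast hone

end Scale

end Cfsg.Agent.Fus.NineDihedral
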