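import Mathlib
import Cfsg.Agent.Lib.Fus.NineDihedral.Algebra

/-!
The combinatorics of the exceptional columns: one column common to all four families, and the column
common to the two mixed differences has degree one.
-/

set_option autoImplicit false
set_option linter.style.haveILetI false
set_option linter.unusedVariables false
set_option linter.unusedSectionVars false

namespace Cfsg.Agent.Fus.NineDihedral

/-- The four coefficients of a column. -/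
def Col.co (v : Col) : Fin 4 → ℤ := ![v.a, v.b, v.c, v.d]

/-- The first nonzero coefficient is one. -/
def Col.Norm (v : Col) : Prop :=
  0 ≤ v.a ∧ (v.a = 0 → 0 ≤ v.c) ∧ (v.a = 0 → v.c = 0 → 0 ≤ v.b) ∧ (v.a = 0 → v.c = 0 → v.b = 0 → 0 ≤ v.d)

/-- The sign making a column normal. -/
def Col.sgn (v : Col) : ℤ :=
  if v.a ≠ 0 then v.a.sign else if v.c ≠ 0 then v.c.sign else if v.b ≠ 0 then v.b.sign else
    if v.d ≠ 0 then v.d.sign else 1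

theorem Col.sgn_cases (v : Col) : v.sgn = 1 ∨ v.sgn = -1 := by
  have key : ∀ x : ℤ, x ≠ 0 → x.sign = 1 ∨ x.sign = -1 := fun x hx =>
    (lt_or_gt_of_ne hx).elim (fun h => Or.inr (Int.sign_eq_neg_one_of_neg h))
      fun h => Or.inl (Int.sign_eq_one_of_pos h)
  rw [Col.sgn]
  split_ifs with h1 h2 h3 h4
  exacts [key _ h1, key _ h2, key _ h3, key _ h4, Or.inl rfl]

theorem Col.norm_scale (v : Col) : (v.scale v.sgn).Norm := by
  have key : ∀ x : ℤ, 0 ≤ x.sign * x := fun x => by rw [Int.sign_mul_self_eq_natAbs]; positivity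
  have h0 : v.sgn ≠ 0 := by rcases v.sgn_cases with e | e <;> rw [e] <;> decide
  obtain ⟨e, f, g, a, b, c, d⟩ := v
  simp only [Col.Norm, Col.scale] at h0 ⊢
  refine ⟨?_, fun ha => ?_, fun ha hc => ?_, fun ha hc hb => ?_⟩
  · by_cases h : a = 0
    · simp [h]
    · simp only [Col.sgn, if_pos h, key]
  · obtain rfl : a = 0 := (mul_eq_zero.mp ha).resolve_left h0
    by_cases h : c = 0
    · simp [h]
    · simp [Col.sgn, h]
  · obtain rfl : a = 0 := (mul_eq_zero.mp ha).resolve_left h0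
    obtain rfl : c = 0 := (mul_eq_zero.mp hc).resolve_left h0
    by_cases h : b = 0
    · simp [h]
    · simp [Col.sgn, h]
  · obtain rfl : a = 0 := (mul_eq_zero.mp ha).resolve_left h0
    obtain rfl : c = 0 := (mul_eq_zero.mp hc).resolve_left h0
    obtain rfl : b = 0 := (mul_eq_zero.mp hb).resolve_left h0
    by_cases h : d = 0
    · simp [h]
    · simp [Col.sgn, h]

theorem Col.co_scale (s : ℤ) (v : Col) (i : Fin 4) : (v.scale s).co i = s * v.co i := by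
  fin_cases i <;> rfl

section Sums

variable {ι : Type*} [DecidableEq ι] {M : Type*} [AddCommMonoid M]

theorem sum3 {E : Finset ι} (f : ι → M) {x y z : ι} (hxy : x ≠ y) (hxz : x ≠ z) (hyz : y ≠ z)
    (hx : x ∈ E) (hy : y ∈ E) (hz : z ∈ E) (h : ∀ χ ∈ E, χ ≠ x → χ ≠ y → χ ≠ z → f χ = 0) :
    ∑ χ ∈ E, f χ = f x + f y + f z := by
  rw [← Finset.sum_subset (s₁ := ({x, y, z} : Finset ι))
    (by intro a; simp only [Finset.mem_insert, Finset.mem_singleton]; rintro (rfl | rfl | rfl) <;> assumption)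
    (fun a ha hn => by simp only [Finset.mem_insert, Finset.mem_singleton, not_or] at hn; exact h a ha hn.1 hn.2.1 hn.2.2)]
  simp [hxy, hxz, hyz, add_assoc]

theorem sum4 {E : Finset ι} (f : ι → M) {w x y z : ι} (hwx : w ≠ x) (hwy : w ≠ y) (hwz : w ≠ z)
    (hxy : x ≠ y) (hxz : x ≠ z) (hyz : y ≠ z) (hw : w ∈ E) (hx : x ∈ E) (hy : y ∈ E) (hz : z ∈ E)
    (h : ∀ χ ∈ E, χ ≠ w → χ ≠ x → χ ≠ y → χ ≠ z → f χ = 0) :
    ∑ χ ∈ E, f χ = f w + f x + f y + f z := by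
  rw [← Finset.sum_subset (s₁ := ({w, x, y, z} : Finset ι))
    (by intro a; simp only [Finset.mem_insert, Finset.mem_singleton]
        rintro (rfl | rfl | rfl | rfl) <;> assumption)
    (fun a ha hn => by
      simp only [Finset.mem_insert, Finset.mem_singleton, not_or] at hn
      exact h a ha hn.1 hn.2.1 hn.2.2.1 hn.2.2.2)]
  simp [hwx, hwy, hwz, hxy, hxz, hyz, add_assoc]

theorem support_card {E : Finset ι} (a : ι → ℤ) (ha : ∀ χ ∈ E, -1 ≤ a χ ∧ a χ ≤ 1) {n : ℕ}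
    (h : ∑ χ ∈ E, a χ * a χ = n) : (E.filter fun χ => a χ ≠ 0).card = n := by
  have h' : ∑ χ ∈ E, a χ * a χ = ((E.filter fun χ => a χ ≠ 0).card : ℤ) := by
    rw [← Finset.sum_boole]
    refine Finset.sum_congr rfl fun χ hχ => ?_
    obtain ⟨h1, h2⟩ := ha χ hχ
    rcases (show a χ = -1 ∨ a χ = 0 ∨ a χ = 1 by omega) with e | e | e <;> simp [e]
  exact_mod_cast h'.symm.trans h

end Sums

/-- The coefficients of the trivial column. -/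
def trivCo : Fin 4 → ℤ := ![1, 0, 1, 0]

/-- The sums of products over the columns other than the trivial one. -/
def innerE : Fin 4 → Fin 4 → ℤ := ![![3, 1, 1, 2], ![1, 4, 2, 2], ![1, 2, 3, 1], ![2, 2, 1, 4]]

/-- The data carried by the nontrivial columns. -/
structure Data {ι : Type*} (t : Case) (σ : Scale) (E : Finset ι) (v : ι → Col) : Prop where
  ok : ∀ χ ∈ E, (v χ).Ok
  ne : ∀ χ ∈ E, (v χ).e ≠ 0
  inner : ∀ i j, ∑ χ ∈ E, (v χ).co i * (v χ).co j = innerE i j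
  lin : ∀ i, ∑ χ ∈ E, (v χ).co i * (v χ).e = -trivCo i
  linX : ∀ i, ∑ χ ∈ E, ((v χ).co i : ℚ) * σ.X (v χ) = 0
  linY : ∀ i, ∑ χ ∈ E, ((v χ).co i : ℚ) * σ.Y (v χ) = 0
  g11 : ∀ i, ∑ χ ∈ E, ((v χ).co i : ℚ) * (σ.X (v χ) * σ.X (v χ)) / (v χ).e = (t.gram i).1 / σ.K
  g12 : ∀ i, ∑ χ ∈ E, ((v χ).co i : ℚ) * (σ.X (v χ) * σ.Y (v χ)) / (v χ).e = (t.gram i).2.1 / σ.K
  g22 : ∀ i, ∑ χ ∈ E, ((v χ).co i : ℚ) * (σ.Y (v χ) * σ.Y (v χ)) / (v χ).e = (t.gram i).2.2 / σ.K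

namespace Data

variable {ι : Type*} {t : Case} {σ : Scale} {E : Finset ι} {v : ι → Col}

theorem rescale (h : Data t σ E v) (s : ι → ℤ) (hs : ∀ χ ∈ E, s χ = 1 ∨ s χ = -1) :
    Data t σ E fun χ => (v χ).scale (s χ) := by
  have hss : ∀ χ ∈ E, s χ * s χ = 1 := fun χ hχ => by rcases hs χ hχ with e | e <;> rw [e] <;> rfl
  have hX : ∀ χ, σ.X ((v χ).scale (s χ)) = (s χ : ℚ) * σ.X (v χ) := fun χ => by
    simp only [Scale.X, Col.scale]; push_cast; ring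
  have hY : ∀ χ, σ.Y ((v χ).scale (s χ)) = (s χ : ℚ) * σ.Y (v χ) := fun χ => by
    simp only [Scale.Y, Col.scale]; push_cast; ring
  have hssq : ∀ χ ∈ E, (s χ : ℚ) * s χ = 1 := fun χ hχ => by exact_mod_cast hss χ hχ
  have hlin : ∀ (F : ι → ℚ) i, ∑ χ ∈ E, (((v χ).scale (s χ)).co i : ℚ) * ((s χ : ℚ) * F χ) =
      ∑ χ ∈ E, ((v χ).co i : ℚ) * F χ := fun F i => Finset.sum_congr rfl fun χ hχ => by
    rw [Col.co_scale, Int.cast_mul]
    linear_combination ((v χ).co i : ℚ) * F χ * hssq χ hχ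
  have hquad : ∀ (F F' : ι → ℚ) i, ∑ χ ∈ E, (((v χ).scale (s χ)).co i : ℚ) *
      (((s χ : ℚ) * F χ) * ((s χ : ℚ) * F' χ)) / ((v χ).scale (s χ)).e =
      ∑ χ ∈ E, ((v χ).co i : ℚ) * (F χ * F' χ) / (v χ).e := fun F F' i => Finset.sum_congr rfl fun χ hχ => by
    rw [Col.co_scale]
    show (_ : ℚ) / ((s χ * (v χ).e : ℤ) : ℚ) = _
    have he : ((v χ).e : ℚ) ≠ 0 := Int.cast_ne_zero.mpr (h.ne χ hχ)
    rcases hs χ hχ with e | e <;> rw [e] <;> push_cast <;> field_simp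
  refine ⟨fun χ hχ => (h.ok χ hχ).scale _, fun χ hχ => ?_, fun i j => ?_, fun i => ?_, fun i => ?_, fun i => ?_,
    fun i => ?_, fun i => ?_, fun i => ?_⟩
  · exact mul_ne_zero (by rcases hs χ hχ with e | e <;> omega) (h.ne χ hχ)
  · rw [← h.inner i j]
    refine Finset.sum_congr rfl fun χ hχ => ?_
    rw [Col.co_scale, Col.co_scale]
    linear_combination (v χ).co i * (v χ).co j * hss χ hχ
  · rw [← h.lin i]
    refine Finset.sum_congr rfl fun χ hχ => ?_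
    rw [Col.co_scale]
    show _ * (s χ * (v χ).e) = _
    linear_combination (v χ).co i * (v χ).e * hss χ hχ
  · simp only [hX]; rw [hlin]; exact h.linX i
  · simp only [hY]; rw [hlin]; exact h.linY i
  · simp only [hX]; rw [hquad]; exact h.g11 i
  · simp only [hX, hY]; rw [hquad]; exact h.g12 i
  · simp only [hY]; rw [hquad]; exact h.g22 i

variable [DecidableEq ι]

theorem bound (h : Data t σ E v) (i : Fin 4) {χ : ι} (hχ : χ ∈ E) :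
    -1 ≤ (v χ).co i ∧ (v χ).co i ≤ 1 := by
  have h4 : innerE i i ≤ 4 := by fin_cases i <;> decide
  have h1 := Finset.single_le_sum (f := fun χ => (v χ).co i * (v χ).co i)
    (fun x _ => mul_self_nonneg _) hχ
  simp only [h.inner i i] at h1
  have h2 : -2 ≤ (v χ).co i ∧ (v χ).co i ≤ 2 := ⟨by nlinarith, by nlinarith⟩
  by_contra hc
  have hsq : (v χ).co i * (v χ).co i = 4 := by
    rcases (show (v χ).co i = 2 ∨ (v χ).co i = -2 by omega) with e | e <;> rw [e] <;> rfl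
  have hrest : ∀ ψ ∈ E.erase χ, (v ψ).co i = 0 := by
    have hle : ∑ ψ ∈ E.erase χ, (v ψ).co i * (v ψ).co i ≤ 0 := by
      have := Finset.add_sum_erase E (fun ψ => (v ψ).co i * (v ψ).co i) hχ
      rw [h.inner i i, hsq] at this
      omega
    intro ψ hψ
    have := (Finset.single_le_sum (f := fun ψ => (v ψ).co i * (v ψ).co i) (fun x _ => mul_self_nonneg _) hψ).trans hle
    exact mul_self_eq_zero.mp (le_antisymm this (mul_self_nonneg _))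
  have h5 := h.lin i
  rw [← Finset.add_sum_erase E _ hχ, Finset.sum_eq_zero fun ψ hψ => by rw [hrest ψ hψ, zero_mul], add_zero] at h5
  have h6 : innerE i i = 4 := le_antisymm h4 (by omega)
  have h7 : trivCo i = 0 := by
    revert h6; fin_cases i <;> decide
  rw [h7, neg_zero] at h5
  rcases mul_eq_zero.mp h5 with e | e
  · rw [e] at hsq; simp at hsq
  · exact h.ne χ hχ e

/-- Three members, for a function meeting the trivial column. -/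
theorem three (h : Data t σ E v) (i : Fin 4) (hi : trivCo i = 1) {x y z : ι} (hxy : x ≠ y) (hxz : x ≠ z)
    (hyz : y ≠ z) (hx : x ∈ E) (hy : y ∈ E) (hz : z ∈ E) (x1 : (v x).co i = 1) (y1 : (v y).co i = 1)
    (z1 : (v z).co i = 1) (hsupp : ∀ χ ∈ E, χ ≠ x → χ ≠ y → χ ≠ z → (v χ).co i = 0) :
    (σ.K : ℚ) * (t.form i).bil (σ.X (v x)) (σ.Y (v x)) (σ.X (v x)) (σ.Y (v x)) =
        ((v x).e : ℚ) + (v x).e * (v x).e ∧
      (σ.K : ℚ) * (t.form i).bil (σ.X (v x)) (σ.Y (v x)) (σ.X (v y)) (σ.Y (v y)) = ((v x).e : ℚ) * (v y).e := by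
  have key : ∀ (R : ι → ℚ) (r : ℚ), (∑ χ ∈ E, ((v χ).co i : ℚ) * R χ = r) → R x + R y + R z = r := by
    intro R r hr
    rw [sum3 _ hxy hxz hyz hx hy hz fun χ hχ a b c => by rw [hsupp χ hχ a b c, Int.cast_zero, zero_mul]] at hr
    simpa [x1, y1, z1] using hr
  have he : ((v x).e : ℚ) + (v y).e + (v z).e = -1 := key (fun χ => ((v χ).e : ℚ)) _ (by
    have := congrArg (Int.cast : ℤ → ℚ) (h.lin i)
    push_cast [hi] at this
    exact this)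
  have hG := fun (F F' : ι → ℚ) (r : ℚ)
    (hr : ∑ χ ∈ E, ((v χ).co i : ℚ) * (F χ * F' χ) / (v χ).e = r) =>
      key (fun χ => F χ * F' χ / (v χ).e) r (by simpa only [mul_div_assoc] using hr)
  obtain ⟨h1, h2⟩ := t.dual i σ.neK (Int.cast_ne_zero.mpr (h.ne x hx)) (Int.cast_ne_zero.mpr (h.ne y hy))
    (Int.cast_ne_zero.mpr (h.ne z hz)) (by norm_num : (-1 : ℚ) ≠ 0) he (key _ _ (h.linX i)) (key _ _ (h.linY i))
    (hG _ _ _ (h.g11 i)) (hG _ _ _ (h.g12 i)) (hG _ _ _ (h.g22 i))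
  refine ⟨h1.trans (by ring), h2.trans (by ring)⟩

/-- Four members, for a function orthogonal to the trivial column: coordinates relative to the first. -/
theorem four (h : Data t σ E v) (i : Fin 4) (hi : trivCo i = 0) {w x y z : ι} (hwx : w ≠ x) (hwy : w ≠ y)
    (hwz : w ≠ z) (hxy : x ≠ y) (hxz : x ≠ z) (hyz : y ≠ z) (hw : w ∈ E) (hx : x ∈ E) (hy : y ∈ E) (hz : z ∈ E)
    (w1 : (v w).co i = 1) (x1 : (v x).co i = 1) (y1 : (v y).co i = 1) (z1 : (v z).co i = 1)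
    (hsupp : ∀ χ ∈ E, χ ≠ w → χ ≠ x → χ ≠ y → χ ≠ z → (v χ).co i = 0) :
    (σ.K : ℚ) * (t.form i).bil (σ.WX (v w) (v x)) (σ.WY (v w) (v x)) (σ.WX (v w) (v x)) (σ.WY (v w) (v x)) =
        ((v x).e : ℚ) + (v x).e * (v x).e / (v w).e ∧
      (σ.K : ℚ) * (t.form i).bil (σ.WX (v w) (v x)) (σ.WY (v w) (v x)) (σ.WX (v w) (v y)) (σ.WY (v w) (v y)) =
        ((v x).e : ℚ) * (v y).e / (v w).e := by
  have key : ∀ (R : ι → ℚ) (r : ℚ), (∑ χ ∈ E, ((v χ).co i : ℚ) * R χ = r) → R w + R x + R y + R z = r := by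
    intro R r hr
    rw [sum4 _ hwx hwy hwz hxy hxz hyz hw hx hy hz
      fun χ hχ a b c d => by rw [hsupp χ hχ a b c d, Int.cast_zero, zero_mul]] at hr
    simpa [w1, x1, y1, z1] using hr
  have he : ((v w).e : ℚ) + (v x).e + (v y).e + (v z).e = 0 := key (fun χ => ((v χ).e : ℚ)) _ (by
    have := congrArg (Int.cast : ℤ → ℚ) (h.lin i)
    push_cast [hi] at this
    simpa using this)
  have hw0 : ((v w).e : ℚ) ≠ 0 := Int.cast_ne_zero.mpr (h.ne w hw)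
  have hx0 : ((v x).e : ℚ) ≠ 0 := Int.cast_ne_zero.mpr (h.ne x hx)
  have hy0 : ((v y).e : ℚ) ≠ 0 := Int.cast_ne_zero.mpr (h.ne y hy)
  have hz0 : ((v z).e : ℚ) ≠ 0 := Int.cast_ne_zero.mpr (h.ne z hz)
  have hX := key _ _ (h.linX i)
  have hY := key _ _ (h.linY i)
  have hG : ∀ (F F' : ι → ℚ) (r : ℚ), (F w + F x + F y + F z = 0) → (F' w + F' x + F' y + F' z = 0) →
      (∑ χ ∈ E, ((v χ).co i : ℚ) * (F χ * F' χ) / (v χ).e = r) →
      (F x - ((v x).e : ℚ) / (v w).e * F w) * (F' x - ((v x).e : ℚ) / (v w).e * F' w) / (v x).e +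
        (F y - ((v y).e : ℚ) / (v w).e * F w) * (F' y - ((v y).e : ℚ) / (v w).e * F' w) / (v y).e +
        (F z - ((v z).e : ℚ) / (v w).e * F w) * (F' z - ((v z).e : ℚ) / (v w).e * F' w) / (v z).e = r := by
    intro F F' r hF hF' hr
    rw [← translate hw0 hx0 hy0 hz0 he hF hF']
    exact key (fun χ => F χ * F' χ / (v χ).e) r (by simpa only [mul_div_assoc] using hr)
  have hsumW : ∀ F : ι → ℚ, F w + F x + F y + F z = 0 →
      (F x - ((v x).e : ℚ) / (v w).e * F w) + (F y - ((v y).e : ℚ) / (v w).e * F w) +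
        (F z - ((v z).e : ℚ) / (v w).e * F w) = 0 := by
    intro F hF
    field_simp
    linear_combination ((v w).e : ℚ) * hF - F w * he
  obtain ⟨h1, h2⟩ := t.dual i σ.neK hx0 hy0 hz0 (s := -((v w).e : ℚ)) (neg_ne_zero.mpr hw0) (by linarith)
    (hsumW _ hX) (hsumW _ hY) (hG _ _ _ hX hX (h.g11 i)) (hG _ _ _ hX hY (h.g12 i)) (hG _ _ _ hY hY (h.g22 i))
  refine ⟨h1.trans ?_, h2.trans ?_⟩
  · rw [div_neg, sub_neg_eq_add]
  · rw [div_neg, neg_neg]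

/-- The two remaining members of a family when some are known. -/
theorem rest (h : Data t σ E v) (i : Fin 4) (K : Finset ι) (hK : ∀ χ ∈ K, χ ∈ E ∧ (v χ).co i ≠ 0)
    (hn : innerE i i = ((K.card + 2 : ℕ) : ℤ)) :
    ∃ q r, q ≠ r ∧ q ∈ E ∧ r ∈ E ∧ q ∉ K ∧ r ∉ K ∧ (v q).co i ≠ 0 ∧ (v r).co i ≠ 0 ∧
      ∀ χ ∈ E, χ ∉ K → χ ≠ q → χ ≠ r → (v χ).co i = 0 := by
  have hc := support_card (E := E) (fun χ => (v χ).co i) (fun χ hχ => h.bound i hχ) ((h.inner i i).trans hn)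
  have hsub : K ⊆ E.filter fun χ => (v χ).co i ≠ 0 := fun χ hχ => Finset.mem_filter.mpr (hK χ hχ)
  have h2 : ((E.filter fun χ => (v χ).co i ≠ 0) \ K).card = 2 := by
    rw [Finset.card_sdiff_of_subset hsub, hc]; omega
  obtain ⟨q, r, hqr, e⟩ := Finset.card_eq_two.mp h2
  have hq : q ∈ (E.filter fun χ => (v χ).co i ≠ 0) \ K := by rw [e]; simp
  have hr : r ∈ (E.filter fun χ => (v χ).co i ≠ 0) \ K := by rw [e]; simp
  simp only [Finset.mem_sdiff, Finset.mem_filter] at hq hr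
  refine ⟨q, r, hqr, hq.1.1, hr.1.1, hq.2, hr.2, hq.1.2, hr.1.2, fun χ hχ hn' h1 h2' => ?_⟩
  by_contra h0
  have : χ ∈ (E.filter fun χ => (v χ).co i ≠ 0) \ K := by simp [hχ, hn', h0]
  rw [e] at this
  simp [h1, h2'] at this

/-- The member common to the two mixed differences has degree one. -/
theorem exists_degree_one (h : Data t σ E v) (hnorm : ∀ χ ∈ E, (v χ).Norm) :
    ∃ γ ∈ E, (v γ).e = 1 := by
  have co : ∀ χ, (v χ).co 0 = (v χ).a ∧ (v χ).co 1 = (v χ).b ∧ (v χ).co 2 = (v χ).c ∧ (v χ).co 3 = (v χ).d :=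
    fun χ => ⟨rfl, rfl, rfl, rfl⟩
  have bd : ∀ χ ∈ E, (-1 ≤ (v χ).a ∧ (v χ).a ≤ 1) ∧ (-1 ≤ (v χ).b ∧ (v χ).b ≤ 1) ∧
      (-1 ≤ (v χ).c ∧ (v χ).c ≤ 1) ∧ (-1 ≤ (v χ).d ∧ (v χ).d ≤ 1) :=
    fun χ hχ => ⟨h.bound 0 hχ, h.bound 1 hχ, h.bound 2 hχ, h.bound 3 hχ⟩
  -- the first family
  have hcA := support_card (E := E) (fun χ => (v χ).co 0) (fun χ hχ => h.bound 0 hχ) (n := 3) (h.inner 0 0)
  obtain ⟨x, y, z, hxy, hxz, hyz, hA⟩ := Finset.card_eq_three.mp hcA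
  have hmemA : ∀ χ, (χ = x ∨ χ = y ∨ χ = z) → χ ∈ E ∧ (v χ).a = 1 := by
    intro χ hχ
    have : χ ∈ E.filter fun χ => (v χ).co 0 ≠ 0 := by rw [hA]; simpa using hχ
    obtain ⟨hE, hne⟩ := Finset.mem_filter.mp this
    rw [(co χ).1] at hne
    have := (hnorm χ hE).1
    have := (bd χ hE).1
    exact ⟨hE, by omega⟩
  obtain ⟨hxE, xa⟩ := hmemA x (Or.inl rfl)
  obtain ⟨hyE, ya⟩ := hmemA y (Or.inr (Or.inl rfl))
  obtain ⟨hzE, za⟩ := hmemA z (Or.inr (Or.inr rfl))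
  have hsuppA : ∀ χ ∈ E, χ ≠ x → χ ≠ y → χ ≠ z → (v χ).a = 0 := by
    intro χ hχ h1 h2 h3
    by_contra h0
    have : χ ∈ E.filter fun χ => (v χ).co 0 ≠ 0 := Finset.mem_filter.mpr ⟨hχ, h0⟩
    rw [hA] at this
    simp [h1, h2, h3] at this
  have hAj : ∀ j, (v x).co j + (v y).co j + (v z).co j = innerE 0 j := by
    intro j
    rw [← h.inner 0 j, sum3 _ hxy hxz hyz hxE hyE hzE fun χ hχ a b c => by
      rw [(co χ).1, hsuppA χ hχ a b c, zero_mul], (co x).1, (co y).1, (co z).1, xa, ya, za, one_mul, one_mul, one_mul]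
  have hAc : (v x).c + (v y).c + (v z).c = 1 := hAj 2
  have hnot : ¬ ((v x).c ≠ 0 ∧ (v y).c ≠ 0 ∧ (v z).c ≠ 0) := by
    rintro ⟨cx, cy, cz⟩
    have hcC := support_card (E := E) (fun χ => (v χ).co 2) (fun χ hχ => h.bound 2 hχ) (n := 3) (h.inner 2 2)
    have hsub : ({x, y, z} : Finset ι) ⊆ E.filter fun χ => (v χ).co 2 ≠ 0 := by
      intro χ hχ
      simp only [Finset.mem_insert, Finset.mem_singleton] at hχ
      rcases hχ with rfl | rfl | rfl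
      exacts [Finset.mem_filter.mpr ⟨hxE, cx⟩, Finset.mem_filter.mpr ⟨hyE, cy⟩, Finset.mem_filter.mpr ⟨hzE, cz⟩]
    have heq := Finset.eq_of_subset_of_card_le hsub (by rw [hcC, ← hA, hcA])
    have hsuppC : ∀ χ ∈ E, χ ≠ x → χ ≠ y → χ ≠ z → (v χ).co 2 = 0 := by
      intro χ hχ h1 h2 h3
      by_contra h0
      have : χ ∈ E.filter fun χ => (v χ).co 2 ≠ 0 := Finset.mem_filter.mpr ⟨hχ, h0⟩
      rw [← heq] at this
      simp [h1, h2, h3] at this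
    have l2 := h.lin 2
    have l0 := h.lin 0
    rw [sum3 _ hxy hxz hyz hxE hyE hzE fun χ hχ a b c => by rw [hsuppC χ hχ a b c, zero_mul]] at l2
    rw [sum3 _ hxy hxz hyz hxE hyE hzE fun χ hχ a b c => by rw [(co χ).1, hsuppA χ hχ a b c, zero_mul]] at l0
    change (v x).c * _ + (v y).c * _ + (v z).c * _ = -1 at l2
    rw [(co x).1, (co y).1, (co z).1, xa, ya, za] at l0
    change 1 * _ + 1 * _ + 1 * _ = (-1 : ℤ) at l0
    have := (bd x hxE).2.2.1; have := (bd y hyE).2.2.1; have := (bd z hzE).2.2.1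
    have := h.ne x hxE; have := h.ne y hyE; have := h.ne z hzE
    rcases (show (v x).c = -1 ∧ (v y).c = 1 ∧ (v z).c = 1 ∨ (v x).c = 1 ∧ (v y).c = -1 ∧ (v z).c = 1 ∨
      (v x).c = 1 ∧ (v y).c = 1 ∧ (v z).c = -1 by omega) with ⟨e1, e2, e3⟩ | ⟨e1, e2, e3⟩ | ⟨e1, e2, e3⟩ <;>
      rw [e1, e2, e3] at l2 <;> omega
  obtain ⟨p, a₁, a₂, hp1, hp2, h12, hpE, h1E, h2E, pa, a1a, a2a, pc, a1c, a2c, hsA⟩ :
      ∃ p a₁ a₂, p ≠ a₁ ∧ p ≠ a₂ ∧ a₁ ≠ a₂ ∧ p ∈ E ∧ a₁ ∈ E ∧ a₂ ∈ E ∧ (v p).a = 1 ∧ (v a₁).a = 1 ∧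
        (v a₂).a = 1 ∧ (v p).c = 1 ∧ (v a₁).c = 0 ∧ (v a₂).c = 0 ∧
        ∀ χ ∈ E, χ ≠ p → χ ≠ a₁ → χ ≠ a₂ → (v χ).a = 0 := by
    have := (bd x hxE).2.2.1; have := (bd y hyE).2.2.1; have := (bd z hzE).2.2.1
    rcases (show ((v x).c = 1 ∧ (v y).c = 0 ∧ (v z).c = 0) ∨ ((v x).c = 0 ∧ (v y).c = 1 ∧ (v z).c = 0) ∨
      ((v x).c = 0 ∧ (v y).c = 0 ∧ (v z).c = 1) by omega) with ⟨e1, e2, e3⟩ | ⟨e1, e2, e3⟩ | ⟨e1, e2, e3⟩
    · exact ⟨x, y, z, hxy, hxz, hyz, hxE, hyE, hzE, xa, ya, za, e1, e2, e3, hsuppA⟩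
    · exact ⟨y, x, z, hxy.symm, hyz, hxz, hyE, hxE, hzE, ya, xa, za, e2, e1, e3,
        fun χ hχ a b c => hsuppA χ hχ b a c⟩
    · exact ⟨z, x, y, hxz.symm, hyz.symm, hxy, hzE, hxE, hyE, za, xa, ya, e3, e1, e2,
        fun χ hχ a b c => hsuppA χ hχ b c a⟩
  -- the second family
  obtain ⟨c₁, c₂, hc12, hc1E, hc2E, hc1p, hc2p, hc1, hc2, hsC⟩ := h.rest 2 {p}
    (fun χ hχ => by rw [Finset.mem_singleton] at hχ; subst hχ; exact ⟨hpE, by rw [(co _).2.2.1, pc]; decide⟩)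
    (by rw [Finset.card_singleton]; rfl)
  rw [Finset.mem_singleton] at hc1p hc2p
  have hac : ∀ q ∈ E, q ≠ p → (v q).c ≠ 0 → (v q).a = 0 ∧ (v q).c = 1 := by
    intro q hq hqp hqc
    have h0 : (v q).a = 0 := hsA q hq hqp (fun e => hqc (e ▸ a1c)) (fun e => hqc (e ▸ a2c))
    have := (hnorm q hq).2.1 h0
    have := (bd q hq).2.2.1
    exact ⟨h0, by omega⟩
  obtain ⟨c1a, c1c⟩ := hac c₁ hc1E hc1p hc1
  obtain ⟨c2a, c2c⟩ := hac c₂ hc2E hc2p hc2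
  have hsC' : ∀ χ ∈ E, χ ≠ p → χ ≠ c₁ → χ ≠ c₂ → (v χ).co 2 = 0 := fun χ hχ a b c =>
    hsC χ hχ (by simpa using a) b c
  have hsA' : ∀ χ ∈ E, χ ≠ p → χ ≠ a₁ → χ ≠ a₂ → (v χ).co 0 = 0 := hsA
  have tA : ∀ {x y z : ι}, x ≠ y → x ≠ z → y ≠ z → x ∈ E → y ∈ E → z ∈ E → (v x).a = 1 → (v y).a = 1 →
      (v z).a = 1 → (∀ χ ∈ E, χ ≠ x → χ ≠ y → χ ≠ z → (v χ).co 0 = 0) → _ :=
    fun {x y z} a b c d e f g i j k => h.three 0 rfl a b c d e f g i j k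
  have tC : ∀ {x y z : ι}, x ≠ y → x ≠ z → y ≠ z → x ∈ E → y ∈ E → z ∈ E → (v x).c = 1 → (v y).c = 1 →
      (v z).c = 1 → (∀ χ ∈ E, χ ≠ x → χ ≠ y → χ ≠ z → (v χ).co 2 = 0) → _ :=
    fun {x y z} a b c d e f g i j k => h.three 2 rfl a b c d e f g i j k
  obtain ⟨pb, pd, hratio⟩ := σ.colP t (v p) (h.ok p hpE) pa pc (bd p hpE).2.1.1 (bd p hpE).2.1.2
    (bd p hpE).2.2.2.1 (bd p hpE).2.2.2.2
    (tA hp1 hp2 h12 hpE h1E h2E pa a1a a2a hsA').1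
    (tC (Ne.symm hc1p) (Ne.symm hc2p) hc12 hpE hc1E hc2E pc c1c c2c hsC').1
  -- coefficients on the first family
  have hA1 := σ.colA t (v a₁) (h.ok a₁ h1E) a1a a1c (bd a₁ h1E).2.1.1 (bd a₁ h1E).2.1.2 (bd a₁ h1E).2.2.2.1
    (bd a₁ h1E).2.2.2.2 (tA hp1.symm h12 hp2 h1E hpE h2E a1a pa a2a fun χ hχ a b c => hsA' χ hχ b a c).1
  have hA2 := σ.colA t (v a₂) (h.ok a₂ h2E) a2a a2c (bd a₂ h2E).2.1.1 (bd a₂ h2E).2.1.2 (bd a₂ h2E).2.2.2.1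
    (bd a₂ h2E).2.2.2.2 (tA hp2.symm h12.symm hp1 h2E hpE h1E a2a pa a1a fun χ hχ a b c => hsA' χ hχ b c a).1
  have sumA : ∀ j, (v p).co j + (v a₁).co j + (v a₂).co j = innerE 0 j := fun j => by
    rw [← h.inner 0 j, sum3 _ hp1 hp2 h12 hpE h1E h2E fun χ hχ a b c => by rw [hsA' χ hχ a b c, zero_mul],
      (co p).1, (co a₁).1, (co a₂).1, pa, a1a, a2a, one_mul, one_mul, one_mul]
  have sb : (v p).b + (v a₁).b + (v a₂).b = 1 := sumA 1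
  have sd : (v p).d + (v a₁).d + (v a₂).d = 2 := sumA 3
  obtain ⟨α, hαE, hαp, αa, αb, αc, αd, hA_B⟩ : ∃ α, α ∈ E ∧ α ≠ p ∧ (v α).a = 1 ∧ (v α).b = 0 ∧ (v α).c = 0 ∧
      (v α).d = 1 ∧ ∀ χ ∈ E, (v χ).a ≠ 0 → χ ≠ p → (v χ).b = 0 ∧ (χ ≠ α → (v χ).d = 0) := by
    have := (bd a₁ h1E).2.2.2; have := (bd a₂ h2E).2.2.2
    have hb : (v a₁).b = 0 ∧ (v a₂).b = 0 := by omega
    have hmem : ∀ χ ∈ E, (v χ).a ≠ 0 → χ ≠ p → χ = a₁ ∨ χ = a₂ := by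
      intro χ hχ ha hne
      by_contra hc
      rw [not_or] at hc
      exact ha (hsA χ hχ hne hc.1 hc.2)
    rcases (show (v a₁).d = 1 ∧ (v a₂).d = 0 ∨ (v a₁).d = 0 ∧ (v a₂).d = 1 by omega) with ⟨e1, e2⟩ | ⟨e1, e2⟩
    · refine ⟨a₁, h1E, hp1.symm, a1a, hb.1, a1c, e1, fun χ hχ ha hne => ?_⟩
      rcases hmem χ hχ ha hne with rfl | rfl
      exacts [⟨hb.1, fun e => (e rfl).elim⟩, ⟨hb.2, fun _ => e2⟩]
    · refine ⟨a₂, h2E, hp2.symm, a2a, hb.2, a2c, e2, fun χ hχ ha hne => ?_⟩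
      rcases hmem χ hχ ha hne with rfl | rfl
      exacts [⟨hb.1, fun _ => e1⟩, ⟨hb.2, fun e => (e rfl).elim⟩]
  -- coefficients on the second family
  have hC1 := σ.colC t (v c₁) (h.ok c₁ hc1E) c1a c1c (bd c₁ hc1E).2.1.1 (bd c₁ hc1E).2.1.2 (bd c₁ hc1E).2.2.2.1
    (bd c₁ hc1E).2.2.2.2 (tC hc1p hc12 (Ne.symm hc2p) hc1E hpE hc2E c1c pc c2c fun χ hχ a b c => hsC' χ hχ b a c).1
  have hC2 := σ.colC t (v c₂) (h.ok c₂ hc2E) c2a c2c (bd c₂ hc2E).2.1.1 (bd c₂ hc2E).2.1.2 (bd c₂ hc2E).2.2.2.1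
    (bd c₂ hc2E).2.2.2.2 (tC hc2p hc12.symm (Ne.symm hc1p) hc2E hpE hc1E c2c pc c1c fun χ hχ a b c => hsC' χ hχ b c a).1
  have sumC : ∀ j, (v p).co j + (v c₁).co j + (v c₂).co j = innerE 2 j := fun j => by
    rw [← h.inner 2 j, sum3 _ (Ne.symm hc1p) (Ne.symm hc2p) hc12 hpE hc1E hc2E
      fun χ hχ a b c => by rw [hsC' χ hχ a b c, zero_mul],
      (co p).2.2.1, (co c₁).2.2.1, (co c₂).2.2.1, pc, c1c, c2c, one_mul, one_mul, one_mul]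
  have sb' : (v p).b + (v c₁).b + (v c₂).b = 2 := sumC 1
  have sd' : (v p).d + (v c₁).d + (v c₂).d = 1 := sumC 3
  obtain ⟨β, δ, hβδ, hβE, hδE, hβp, hδp, βa, βb, βc, βd, δb, δc, δd, hC_sup⟩ : ∃ β δ, β ≠ δ ∧ β ∈ E ∧ δ ∈ E ∧
      β ≠ p ∧ δ ≠ p ∧ (v β).a = 0 ∧ (v β).b = 1 ∧ (v β).c = 1 ∧ (v β).d = 0 ∧
      (v δ).b = 0 ∧ (v δ).c = 1 ∧ (v δ).d = 0 ∧ ∀ χ ∈ E, χ ≠ p → χ ≠ β → χ ≠ δ → (v χ).c = 0 := by
    have := (bd c₁ hc1E).2.1; have := (bd c₂ hc2E).2.1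
    rcases (show (v c₁).b = 1 ∧ (v c₂).b = 0 ∧ (v c₁).d = 0 ∧ (v c₂).d = 0 ∨
      (v c₁).b = 0 ∧ (v c₂).b = 1 ∧ (v c₁).d = 0 ∧ (v c₂).d = 0 by omega) with
      ⟨e1, e2, e3, e4⟩ | ⟨e1, e2, e3, e4⟩
    · exact ⟨c₁, c₂, hc12, hc1E, hc2E, hc1p, hc2p, c1a, e1, c1c, e3, e2, c2c, e4, hsC'⟩
    · exact ⟨c₂, c₁, hc12.symm, hc2E, hc1E, hc2p, hc1p, c2a, e2, c2c, e4, e1, c1c, e3,
        fun χ hχ a b c => hsC' χ hχ a c b⟩
  -- the mixed differences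
  obtain ⟨q, r, hqr, hqE, hrE, hq, hr, hqb, hrb, hsB⟩ := h.rest 1 {p, β}
    (fun χ hχ => by
      simp only [Finset.mem_insert, Finset.mem_singleton] at hχ
      rcases hχ with rfl | rfl
      exacts [⟨hpE, by rw [(co _).2.1, pb]; decide⟩, ⟨hβE, by rw [(co _).2.1, βb]; decide⟩])
    (by rw [Finset.card_pair hβp.symm]; rfl)
  simp only [Finset.mem_insert, Finset.mem_singleton, not_or] at hq hr
  have hbac : ∀ χ ∈ E, χ ≠ p → χ ≠ β → (v χ).b ≠ 0 → (v χ).a = 0 ∧ (v χ).c = 0 ∧ (v χ).b = 1 := by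
    intro χ hχ hne hne' hb
    have h0 : (v χ).a = 0 := by
      by_contra h0
      exact hb (hA_B χ hχ h0 hne).1
    have h1 : (v χ).c = 0 := hC_sup χ hχ hne hne' fun e => hb (e ▸ δb)
    have := (hnorm χ hχ).2.2.1 h0 h1
    have := (bd χ hχ).2.1
    exact ⟨h0, h1, by omega⟩
  obtain ⟨qa, qc, qb⟩ := hbac q hqE hq.1 hq.2 hqb
  obtain ⟨ra, rc, rb⟩ := hbac r hrE hr.1 hr.2 hrb
  have hsB' : ∀ χ ∈ E, χ ≠ p → χ ≠ β → χ ≠ q → χ ≠ r → (v χ).co 1 = 0 := fun χ hχ a b c d =>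
    hsB χ hχ (by simp [a, b]) c d
  have sbd : (v p).d + (v β).d + (v q).d + (v r).d = 2 := by
    have := h.inner 1 3
    rw [sum4 _ hβp.symm (Ne.symm hq.1) (Ne.symm hr.1) (Ne.symm hq.2) (Ne.symm hr.2) hqr hpE hβE hqE hrE
      fun χ hχ a b c d => by rw [hsB' χ hχ a b c d, zero_mul],
      (co p).2.1, (co β).2.1, (co q).2.1, (co r).2.1, pb, βb, qb, rb, one_mul, one_mul, one_mul, one_mul] at this
    exact this
  obtain ⟨γ, q', hγq', hγE, hq'E, hγ, hq', γa, γb, γc, γd, q'b, hsB''⟩ : ∃ γ q', γ ≠ q' ∧ γ ∈ E ∧ q' ∈ E ∧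
      (γ ≠ p ∧ γ ≠ β) ∧ (q' ≠ p ∧ q' ≠ β) ∧ (v γ).a = 0 ∧ (v γ).b = 1 ∧ (v γ).c = 0 ∧ (v γ).d = 1 ∧
      (v q').b = 1 ∧ ∀ χ ∈ E, χ ≠ p → χ ≠ β → χ ≠ γ → χ ≠ q' → (v χ).co 1 = 0 := by
    have := (bd q hqE).2.2.2; have := (bd r hrE).2.2.2
    rcases (show (v q).d = 1 ∨ (v r).d = 1 by omega) with e | e
    · exact ⟨q, r, hqr, hqE, hrE, hq, hr, qa, qb, qc, e, rb, hsB'⟩
    · exact ⟨r, q, hqr.symm, hrE, hqE, hr, hq, ra, rb, rc, e, qb, fun χ hχ a b c d => hsB' χ hχ a b d c⟩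
  -- the last family
  have hαγ : α ≠ γ := fun e => by rw [e, γa] at αa; exact absurd αa (by decide)
  obtain ⟨ν, ν', hνν', hνE, hν'E, hν, hν', hνd, hν'd, hsD⟩ := h.rest 3 {p, γ}
    (fun χ hχ => by
      simp only [Finset.mem_insert, Finset.mem_singleton] at hχ
      rcases hχ with rfl | rfl
      exacts [⟨hpE, by rw [(co _).2.2.2, pd]; decide⟩, ⟨hγE, by rw [(co _).2.2.2, γd]; decide⟩])
    (by rw [Finset.card_pair (Ne.symm hγ.1)]; rfl)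
  simp only [Finset.mem_insert, Finset.mem_singleton, not_or] at hν hν'
  have hdone : ∀ χ ∈ E, χ ≠ p → χ ≠ γ → χ ≠ α → (v χ).d ≠ 0 → (v χ).d = 1 := by
    intro χ hχ h1 h2 h3 h4
    have h0 : (v χ).a = 0 := by
      by_contra h0
      exact h4 ((hA_B χ hχ h0 h1).2 h3)
    have hb' : χ ≠ β := fun e => h4 (e ▸ βd)
    have hc' : (v χ).c = 0 := hC_sup χ hχ h1 hb' fun e => h4 (e ▸ δd)
    have hbd := (bd χ hχ).2.2.2
    by_cases hb : (v χ).b = 0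
    · have := (hnorm χ hχ).2.2.2 h0 hc' hb; omega
    · have hq'' : χ = q' := by
        by_contra hne
        exact hb (hsB'' χ hχ h1 hb' h2 hne)
      subst hq''
      have := h.inner 1 3
      rw [sum4 _ hβp.symm (Ne.symm hγ.1) (Ne.symm hq'.1) (Ne.symm hγ.2) (Ne.symm hq'.2) hγq' hpE hβE hγE hχ
        fun χ hχ a b c d => by rw [hsB'' χ hχ a b c d, zero_mul],
        (co p).2.1, (co β).2.1, (co γ).2.1, (co χ).2.1, pb, βb, γb, q'b, one_mul, one_mul, one_mul, one_mul,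
        (co p).2.2.2, (co β).2.2.2, (co γ).2.2.2, (co χ).2.2.2, pd, βd, γd] at this
      change _ = (2 : ℤ) at this
      omega
  obtain ⟨μ, hμE, hμ, μd, hsD'⟩ : ∃ μ, μ ∈ E ∧ (μ ≠ p ∧ μ ≠ γ ∧ μ ≠ α) ∧ (v μ).d = 1 ∧
      ∀ χ ∈ E, χ ≠ p → χ ≠ γ → χ ≠ α → χ ≠ μ → (v χ).co 3 = 0 := by
    have hα3 : α = ν ∨ α = ν' := by
      by_contra hc
      rw [not_or] at hc
      have := hsD α hαE (by simp [hαp, hαγ]) hc.1 hc.2
      rw [(co α).2.2.2, αd] at this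
      exact absurd this (by decide)
    rcases hα3 with rfl | rfl
    · refine ⟨ν', hν'E, ⟨hν'.1, hν'.2, hνν'.symm⟩, hdone ν' hν'E hν'.1 hν'.2 hνν'.symm hν'd,
        fun χ hχ a b c d => hsD χ hχ (by simp [a, b]) c d⟩
    · refine ⟨ν, hνE, ⟨hν.1, hν.2, hνν'⟩, hdone ν hνE hν.1 hν.2 hνν' hνd,
        fun χ hχ a b c d => hsD χ hχ (by simp [a, b]) d c⟩
  refine ⟨γ, hγE, σ.conclude t (h.ok p hpE) pa pb pc pd (h.ok β hβE) βa βb βc βd (h.ok γ hγE) γa γb γc γd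
    (Int.cast_ne_zero.mpr (h.ne p hpE)) (Int.cast_ne_zero.mpr (h.ne β hβE)) (Int.cast_ne_zero.mpr (h.ne γ hγE))
    hratio (tC hβp.symm hδp.symm hβδ hpE hβE hδE pc βc δc hC_sup).1
    (tC hβp hβδ hδp.symm hβE hpE hδE βc pc δc fun χ hχ a b c => hC_sup χ hχ b a c).1
    (tC hβp hβδ hδp.symm hβE hpE hδE βc pc δc fun χ hχ a b c => hC_sup χ hχ b a c).2 ?_ ?_ ?_ ?_⟩
  · exact (h.four 1 rfl hβp.symm (Ne.symm hγ.1) (Ne.symm hq'.1) (Ne.symm hγ.2) (Ne.symm hq'.2) hγq' hpE hβE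
      hγE hq'E pb βb γb q'b hsB'').1
  · exact (h.four 1 rfl (Ne.symm hγ.1) hβp.symm (Ne.symm hq'.1) hγ.2 hγq' (Ne.symm hq'.2) hpE hγE hβE hq'E
      pb γb βb q'b fun χ hχ a b c d => hsB'' χ hχ a c b d).1
  · exact (h.four 1 rfl hβp.symm (Ne.symm hγ.1) (Ne.symm hq'.1) (Ne.symm hγ.2) (Ne.symm hq'.2) hγq' hpE hβE
      hγE hq'E pb βb γb q'b hsB'').2
  · exact (h.four 3 rfl (Ne.symm hγ.1) hαp.symm (Ne.symm hμ.1) hαγ.symm (Ne.symm hμ.2.1) (Ne.symm hμ.2.2)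
      hpE hγE hαE hμE pd γd αd μd hsD').1

end Data

end Cfsg.Agent.Fus.NineDihedral
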