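import Mathlib
import Cfsg.Agent.Lib.Fus.NineFour.Setup

/-!
A self-centralizing Sylow 3-subgroup of order nine whose normalizer has dihedral Sylow 2-subgroups
of order eight: the normalizer has order 72.
-/

set_option autoImplicit false
set_option linter.style.haveILetI false
set_option linter.unusedSectionVars false

namespace Cfsg.Agent.Fus.NineDihedral

open Subgroup

universe u

variable {G : Type u} [Group G] [Finite G] {T : Sylow 3 G}

theorem prime_eq_two (hcard : Nat.card T = 9)
    (hC : centralizer ((T : Subgroup G) : Set G) = T) {p : ℕ} (hp : p.Prime)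
    (hdvd : p ∣ ((T : Subgroup G).subgroupOf (normalizer ((T : Subgroup G) : Set G))).index) :
    p = 2 := by
  classical
  haveI := Fact.mk hp
  set N := normalizer ((T : Subgroup G) : Set G) with hN
  have hp3 : p ≠ 3 := by
    rintro rfl
    exact T.not_dvd_index (hdvd.trans (Subgroup.relIndex_dvd_index_of_le Subgroup.le_normalizer))
  obtain ⟨y, hy⟩ := exists_prime_orderOf_dvd_card' (G := N) p (hdvd.trans (Subgroup.index_dvd_card _))
  have hY : IsPGroup p (zpowers y) := IsPGroup.of_card (n := 1) (by rw [Nat.card_zpowers, hy, pow_one])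
  letI : MulAction (zpowers y) (T : Subgroup G) :=
    { smul := fun z t => ⟨(z : N) * (t : G) * ((z : N) : G)⁻¹,
        (Subgroup.mem_normalizer_iff.mp (z : N).2 t).mp t.2⟩
      one_smul := fun t => Subtype.ext (show ((1 : N) : G) * t * ((1 : N) : G)⁻¹ = t by simp)
      mul_smul := fun a b t => Subtype.ext (show (((a * b : zpowers y) : N) : G) * t * _ =
        ((a : N) : G) * (((b : N) : G) * t * ((b : N) : G)⁻¹) * ((a : N) : G)⁻¹ by
          simp [mul_assoc]) }
  have hsmul : ∀ (z : zpowers y) (t : (T : Subgroup G)),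
      ((z • t : (T : Subgroup G)) : G) = (z : N) * (t : G) * ((z : N) : G)⁻¹ := fun _ _ => rfl
  let F : Subgroup (T : Subgroup G) :=
    { carrier := MulAction.fixedPoints (zpowers y) (T : Subgroup G)
      one_mem' := fun z => Subtype.ext (by rw [hsmul]; simp)
      mul_mem' := fun {a b} ha hb z => Subtype.ext (by
        have h1 := congrArg Subtype.val (ha z)
        have h2 := congrArg Subtype.val (hb z)
        rw [hsmul] at h1 h2 ⊢
        rw [Subgroup.coe_mul]
        conv_rhs => rw [← h1, ← h2]
        group)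
      inv_mem' := fun {a} ha z => Subtype.ext (by
        have h1 := congrArg Subtype.val (ha z)
        rw [hsmul] at h1 ⊢
        rw [Subgroup.coe_inv]
        conv_rhs => rw [← h1]
        group) }
  have hmod := hY.card_modEq_card_fixedPoints (T : Subgroup G)
  have hF : Nat.card F ∣ 3 ^ 2 := by
    have := Subgroup.card_subgroup_dvd_card F
    rwa [hcard] at this
  obtain ⟨k, hk, hkF⟩ := (Nat.dvd_prime_pow Nat.prime_three).mp hF
  rw [hcard, show Nat.card (MulAction.fixedPoints (zpowers y) (T : Subgroup G)) = Nat.card F from rfl,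
    hkF] at hmod
  by_contra hp2
  interval_cases k
  · have : p ∣ 8 := (Nat.modEq_iff_dvd' (by norm_num)).mp hmod.symm
    exact hp2 ((Nat.prime_dvd_prime_iff_eq hp Nat.prime_two).mp (hp.dvd_of_dvd_pow (n := 3) this))
  · have : p ∣ 2 * 3 := (Nat.modEq_iff_dvd' (by norm_num)).mp hmod.symm
    rcases hp.dvd_mul.mp this with h | h
    · exact hp2 ((Nat.prime_dvd_prime_iff_eq hp Nat.prime_two).mp h)
    · exact hp3 ((Nat.prime_dvd_prime_iff_eq hp Nat.prime_three).mp h)
  · have htop : F = ⊤ := Subgroup.eq_top_of_card_eq F (by rw [hkF, hcard]; norm_num)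
    have hyT : (y : G) ∈ (T : Subgroup G) := by
      rw [← hC, Subgroup.mem_centralizer_iff]
      intro t ht
      have h1 := congrArg Subtype.val
        ((htop.ge (Subgroup.mem_top (⟨t, ht⟩ : (T : Subgroup G)))) ⟨y, Subgroup.mem_zpowers y⟩)
      rw [hsmul] at h1
      exact (mul_inv_eq_iff_eq_mul.mp h1).symm
    have h3 := Subgroup.orderOf_dvd_natCard _ hyT
    rw [Subgroup.orderOf_coe, hy, hcard] at h3
    exact hp3 ((Nat.prime_dvd_prime_iff_eq hp Nat.prime_three).mp (hp.dvd_of_dvd_pow (n := 2) h3))

theorem card_normalizer (hcard : Nat.card T = 9)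
    (hC : centralizer ((T : Subgroup G) : Set G) = T)
    (S : Sylow 2 (normalizer ((T : Subgroup G) : Set G)))
    (hS : Nat.card (S : Subgroup (normalizer ((T : Subgroup G) : Set G))) = 8) :
    Nat.card (normalizer ((T : Subgroup G) : Set G)) = 72 := by
  classical
  revert S hS
  generalize hN : normalizer ((T : Subgroup G) : Set G) = N
  intro S hS
  set q := ((T : Subgroup G).subgroupOf N).index with hq
  have hNq : Nat.card N = 9 * q := by
    rw [hq, ← ((T : Subgroup G).subgroupOf N).card_mul_index,
      Nat.card_congr (Subgroup.subgroupOfEquivOfLe (hN ▸ Subgroup.le_normalizer)).toEquiv]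
    exact congrArg (· * _) hcard
  have hq0 : q ≠ 0 := Subgroup.index_ne_zero_of_finite
  have hpow := Nat.eq_prime_pow_of_unique_prime_dvd hq0 (p := 2)
    (fun {d} hd hdq => prime_eq_two hcard hC hd (by rw [hN]; exact hdq))
  have h8 : 8 ∣ q := by
    have := Subgroup.card_subgroup_dvd_card (S : Subgroup N)
    rw [hS, hNq] at this
    exact (Nat.Coprime.dvd_of_dvd_mul_left (by norm_num) this)
  have h16 : ¬ 16 ∣ q := by
    intro h
    haveI := Fact.mk Nat.prime_two
    have := S.pow_dvd_card_of_pow_dvd_card (n := 4) (dvd_trans h (hNq ▸ dvd_mul_left q 9))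
    rw [hS] at this
    norm_num at this
  rw [hpow] at h8 h16 hNq
  set k := q.primeFactorsList.length
  have h3 : 3 ≤ k := (Nat.pow_dvd_pow_iff_le_right (by norm_num)).mp (show 2 ^ 3 ∣ 2 ^ k from h8)
  have h4 : k ≤ 3 := by
    by_contra hk
    exact h16 (Nat.pow_dvd_pow 2 (show 4 ≤ k by omega))
  rw [hNq, show k = 3 by omega]
  norm_num

end Cfsg.Agent.Fus.NineDihedral
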