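import Mathlib
import Cfsg.Agent.Lib.Fus.NineDihedral.Order

/-!
A self-centralizing Sylow 3-subgroup of order nine with dihedral automizer of order eight: the two
copies of `D₃ × D₃` inside the normalizer and the involutions interchanging their factors.
-/

set_option autoImplicit false
set_option linter.style.haveILetI false
set_option linter.unusedSectionVars false
set_option linter.unusedVariables false

namespace Cfsg.Agent.Fus.NineDihedral

open Subgroup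

abbrev D := DihedralGroup 3

universe u

/-- The two coordinate systems on the normalizer. -/
structure Pair (G : Type u) [Group G] (T : Sylow 3 G) where
  φ₁ : D × D →* G
  φ₂ : D × D →* G
  inj₁ : Function.Injective φ₁
  inj₂ : Function.Injective φ₂
  le₁ : ∀ p, φ₁ p ∈ normalizer ((T : Subgroup G) : Set G)
  le₂ : ∀ p, φ₂ p ∈ normalizer ((T : Subgroup G) : Set G)
  card_N : Nat.card (normalizer ((T : Subgroup G) : Set G)) = 72
  memT : ∀ t ∈ (T : Subgroup G), ∃ i j, φ₁ (.r i, .r j) = t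
  rot_mem : ∀ i j, φ₁ (.r i, .r j) ∈ (T : Subgroup G)
  rot : ∀ i j, φ₂ (.r i, .r j) = φ₁ (.r (i + j), .r (i - j))
  zz : φ₂ (.sr 0, .sr 0) = φ₁ (.sr 0, .sr 0)
  swap₁ : ∀ p : D × D, φ₂ (1, .sr 0) * φ₁ p * (φ₂ (1, .sr 0))⁻¹ = φ₁ p.swap
  swap₂ : ∀ p : D × D, φ₁ (1, .sr 0) * φ₂ p * (φ₁ (1, .sr 0))⁻¹ = φ₂ p.swap

variable {G : Type u} [Group G]

/-- The image of an element of `D × D` under four generators. -/
def val (g a h b : G) : D × D → G
  | (.r i, .r j) => g ^ i.val * h ^ j.val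
  | (.r i, .sr j) => g ^ i.val * (b * h ^ j.val)
  | (.sr i, .r j) => a * g ^ i.val * h ^ j.val
  | (.sr i, .sr j) => a * g ^ i.val * (b * h ^ j.val)

/-- A homomorphism from `D × D` given by two commuting dihedral pairs. -/
theorem exists_hom (g a h b : G) (hg : g ^ 3 = 1) (hh : h ^ 3 = 1) (ha : a * a = 1) (hb : b * b = 1)
    (hag : a * g * a⁻¹ = g⁻¹) (hbh : b * h * b⁻¹ = h⁻¹) (hgh : Commute g h) (hgb : Commute g b)
    (hah : Commute a h) (hab : Commute a b) :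
    ∃ φ : D × D →* G, ∀ p, φ p = val g a h b p := by
  set f₁ := Invol.dihedralHom (n := 3) g a hg ha hag with hf₁
  set f₂ := Invol.dihedralHom (n := 3) h b hh hb hbh with hf₂
  have hr : ∀ (x s : G) (hx : x ^ 3 = 1) (hs : s * s = 1) (hsx : s * x * s⁻¹ = x⁻¹) (i : ZMod 3),
      Invol.dihedralHom x s hx hs hsx (.r i) = x ^ i.val ∧
      Invol.dihedralHom x s hx hs hsx (.sr i) = s * x ^ i.val := by
    intro x s hx hs hsx i
    constructor
    · conv_lhs => rw [← ZMod.natCast_zmod_val i, ← Int.cast_natCast, Invol.dihedralHom_r, zpow_natCast]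
    · conv_lhs => rw [← ZMod.natCast_zmod_val i, ← Int.cast_natCast, Invol.dihedralHom_sr, zpow_natCast]
  have hc : ∀ p q : D, Commute (f₁ p) (f₂ q) := by
    rintro (i | i) (j | j)
    · rw [hf₁, hf₂, (hr g a _ _ _ i).1, (hr h b _ _ _ j).1]
      exact hgh.pow_pow _ _
    · rw [hf₁, hf₂, (hr g a _ _ _ i).1, (hr h b _ _ _ j).2]
      exact (hgb.pow_left _).mul_right (hgh.pow_pow _ _)
    · rw [hf₁, hf₂, (hr g a _ _ _ i).2, (hr h b _ _ _ j).1]
      exact (hah.pow_right _).mul_left (hgh.pow_pow _ _)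
    · rw [hf₁, hf₂, (hr g a _ _ _ i).2, (hr h b _ _ _ j).2]
      exact ((hab.mul_right (hah.pow_right _))).mul_left ((hgb.pow_left _).mul_right (hgh.pow_pow _ _))
  refine ⟨MonoidHom.noncommCoprod f₁ f₂ hc, ?_⟩
  rintro ⟨i | i, j | j⟩ <;> rw [MonoidHom.noncommCoprod_apply, hf₁, hf₂]
  · rw [(hr g a _ _ _ i).1, (hr h b _ _ _ j).1]; rfl
  · rw [(hr g a _ _ _ i).1, (hr h b _ _ _ j).2]; rfl
  · rw [(hr g a _ _ _ i).2, (hr h b _ _ _ j).1]; rfl
  · rw [(hr g a _ _ _ i).2, (hr h b _ _ _ j).2]; rfl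

variable [Finite G] {T : Sylow 3 G}

/-- Two independent elements span a plane of order nine. -/
theorem span (hel : ∀ t ∈ (T : Subgroup G), t ^ 3 = 1) (hcard : Nat.card T = 9)
    {g h : G} (hg : g ∈ (T : Subgroup G)) (hh : h ∈ (T : Subgroup G)) (hg1 : g ≠ 1)
    (hne : h ∉ zpowers g) :
    ∀ t ∈ (T : Subgroup G), ∃ i j : ℕ, i < 3 ∧ j < 3 ∧ t = g ^ i * h ^ j := by
  have hog : orderOf g = 3 := by
    haveI := Fact.mk Nat.prime_three
    exact orderOf_eq_prime (hel g hg) hg1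
  have hinj : Function.Injective fun p : Fin 3 × Fin 3 =>
      (⟨g ^ (p.1 : ℕ) * h ^ (p.2 : ℕ), mul_mem (pow_mem hg _) (pow_mem hh _)⟩ : (T : Subgroup G)) := by
    rintro ⟨i, j⟩ ⟨i', j'⟩ e
    have e' : g ^ (i : ℕ) * h ^ (j : ℕ) = g ^ (i' : ℕ) * h ^ (j' : ℕ) := congrArg Subtype.val e
    have e1 : h ^ (j : ℕ) * (h ^ (j' : ℕ))⁻¹ ∈ zpowers g := by
      have : h ^ (j : ℕ) * (h ^ (j' : ℕ))⁻¹ = (g ^ (i : ℕ))⁻¹ * g ^ (i' : ℕ) := by
        rw [mul_inv_eq_iff_eq_mul, mul_assoc, ← e', inv_mul_cancel_left]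
      rw [this]
      exact mul_mem (inv_mem (pow_mem (mem_zpowers g) _)) (pow_mem (mem_zpowers g) _)
    have hj : j = j' := by
      by_contra hj
      apply hne
      have h1 : h ^ ((j : ℕ) + (3 - (j' : ℕ))) ∈ zpowers g := by
        have : (h ^ (j' : ℕ))⁻¹ = h ^ (3 - (j' : ℕ)) := inv_eq_of_mul_eq_one_right (by
          rw [← pow_add, show (j' : ℕ) + (3 - (j' : ℕ)) = 3 by omega, hel h hh])
        rwa [this, ← pow_add] at e1
      have h2 : ∀ m : ℕ, h ^ m = h ^ (m % 3) := fun m => by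
        conv_lhs => rw [← Nat.mod_add_div m 3, pow_add, pow_mul, hel h hh, one_pow, mul_one]
      rw [h2] at h1
      have hm : ((j : ℕ) + (3 - (j' : ℕ))) % 3 = 1 ∨ ((j : ℕ) + (3 - (j' : ℕ))) % 3 = 2 := by
        have : (j : ℕ) ≠ (j' : ℕ) := fun e => hj (Fin.ext e)
        omega
      rcases hm with e | e <;> rw [e] at h1
      · rwa [pow_one] at h1
      · have h3 := pow_mem h1 2
        rwa [← pow_mul, h2, show 2 * 2 % 3 = 1 by rfl, pow_one] at h3
    subst hj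
    have e2 : g ^ (i : ℕ) = g ^ (i' : ℕ) := mul_right_cancel e'
    have : (i : ℕ) = i' := pow_injOn_Iio_orderOf (by simp [hog]) (by simp [hog]) e2
    exact Prod.ext (Fin.ext this) rfl
  have hbij := hinj.bijective_of_nat_card_le (by rw [hcard, Nat.card_prod]; simp)
  intro t ht
  obtain ⟨⟨i, j⟩, e⟩ := hbij.2 ⟨t, ht⟩
  exact ⟨i, j, i.2, j.2, (congrArg Subtype.val e).symm⟩

theorem exists_pair (hel : ∀ t ∈ (T : Subgroup G), t ^ 3 = 1)
    (hcomm : ∀ s ∈ (T : Subgroup G), ∀ t ∈ (T : Subgroup G), s * t = t * s) (hcard : Nat.card T = 9)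
    (hC : centralizer ((T : Subgroup G) : Set G) = T)
    (S : Sylow 2 (normalizer ((T : Subgroup G) : Set G)))
    (e : ↥(S : Subgroup (normalizer ((T : Subgroup G) : Set G))) ≃* DihedralGroup 4) :
    Nonempty (Pair G T) := by
  classical
  have h72 := card_normalizer hcard hC S (by rw [Nat.card_congr e.toEquiv, DihedralGroup.nat_card])
  let ι : DihedralGroup 4 →* G :=
    (normalizer ((T : Subgroup G) : Set G)).subtype.comp
      ((S : Subgroup (normalizer ((T : Subgroup G) : Set G))).subtype.comp e.symm.toMonoidHom)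
  have hιinj : Function.Injective ι :=
    Subtype.val_injective.comp (Subtype.val_injective.comp e.symm.injective)
  have hιN : ∀ d, ι d ∈ normalizer ((T : Subgroup G) : Set G) := fun d => (e.symm d).1.2
  have hfaith : ∀ d, (∀ t ∈ (T : Subgroup G), ι d * t * (ι d)⁻¹ = t) → d = 1 := by
    intro d hd
    have hmem : ι d ∈ (T : Subgroup G) := hC ▸ Subgroup.mem_centralizer_iff.mpr
      fun t ht => (mul_inv_eq_iff_eq_mul.mp (hd t ht)).symm
    have h8 : ∀ d : DihedralGroup 4, d ^ 3 = 1 → d = 1 := by decide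
    exact h8 d (hιinj (by rw [map_pow, hel _ hmem, map_one]))
  have hconjT : ∀ d, ∀ t ∈ (T : Subgroup G), ι d * t * (ι d)⁻¹ ∈ (T : Subgroup G) := fun d t ht =>
    (Subgroup.mem_normalizer_iff.mp (hιN d) t).mp ht
  have hcomp : ∀ c d t, ι (c * d) * t * (ι (c * d))⁻¹ = ι c * (ι d * t * (ι d)⁻¹) * (ι c)⁻¹ :=
    fun c d t => by rw [map_mul]; group
  -- the central involution inverts the plane
  have hzinv : ∀ t ∈ (T : Subgroup G), ι (.r 2) * t * (ι (.r 2))⁻¹ = t⁻¹ := by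
    by_contra hcon
    push Not at hcon
    obtain ⟨t, ht, hne⟩ := hcon
    set x := ι (.r 1) with hx
    set z := ι (.r 2) with hz
    have hzz : ∀ u : G, z * (z * u * z⁻¹) * z⁻¹ = u := fun u => by
      rw [hz, ← hcomp, show (DihedralGroup.r 2 : DihedralGroup 4) * .r 2 = 1 by decide, map_one]; group
    have hxx : ∀ u : G, x * (x * u * x⁻¹) * x⁻¹ = z * u * z⁻¹ := fun u => by
      rw [hx, hz, ← hcomp, show (DihedralGroup.r 1 : DihedralGroup 4) * .r 1 = .r 2 by decide]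
    have hzx : ∀ u : G, z * (x * u * x⁻¹) * z⁻¹ = x * (z * u * z⁻¹) * x⁻¹ := fun u => by
      rw [hx, hz, ← hcomp, ← hcomp, show (DihedralGroup.r 2 : DihedralGroup 4) * .r 1 = .r 1 * .r 2 by decide]
    have hzT : ∀ u ∈ (T : Subgroup G), z * u * z⁻¹ ∈ (T : Subgroup G) := hconjT _
    have hxT : ∀ u ∈ (T : Subgroup G), x * u * x⁻¹ ∈ (T : Subgroup G) := hconjT _
    obtain ⟨h, hhT, hh1, hfix⟩ : ∃ h ∈ (T : Subgroup G), h ≠ 1 ∧ z * h * z⁻¹ = h := by
      refine ⟨t * (z * t * z⁻¹), mul_mem ht (hzT t ht), fun e => hne (eq_inv_of_mul_eq_one_right e), ?_⟩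
      rw [show z * (t * (z * t * z⁻¹)) * z⁻¹ = (z * t * z⁻¹) * (z * (z * t * z⁻¹) * z⁻¹) by group, hzz,
        hcomm _ (hzT t ht) t ht]
    obtain ⟨u, huT, hu⟩ : ∃ u ∈ (T : Subgroup G), z * u * z⁻¹ ≠ u := by
      by_contra hall
      push Not at hall
      exact absurd (hfaith _ hall) (by decide)
    set g := u * (z * u * z⁻¹)⁻¹ with hg
    have hgT : g ∈ (T : Subgroup G) := mul_mem huT (inv_mem (hzT u huT))
    have hg1 : g ≠ 1 := fun e => hu (mul_inv_eq_one.mp e).symm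
    have hginv : z * g * z⁻¹ = g⁻¹ := by
      rw [hg, show z * (u * (z * u * z⁻¹)⁻¹) * z⁻¹ = (z * u * z⁻¹) * (z * (z * u * z⁻¹) * z⁻¹)⁻¹ by group,
        hzz, mul_inv_rev, inv_inv]
    have hgi : ∀ i : ℕ, z * g ^ i * z⁻¹ = (g ^ i)⁻¹ := fun i => by rw [← conj_pow, hginv, inv_pow]
    have hhi : ∀ i : ℕ, z * h ^ i * z⁻¹ = h ^ i := fun i => by rw [← conj_pow, hfix]
    have hnot : h ∉ zpowers g := by
      intro hm
      obtain ⟨i, hi⟩ := (isOfFinOrder_of_finite g).mem_zpowers_iff_mem_range_orderOf.mp hm |> fun h => by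
        simpa using h
      have h2 := hgi i
      rw [hi.2, hfix] at h2
      have h3 : h * h = 1 := mul_eq_one_iff_eq_inv.mpr h2
      have : h ^ 3 = h := by rw [pow_succ, pow_two, h3, one_mul]
      exact hh1 (this.symm.trans (hel h hhT))
    obtain ⟨i, j, hi, hj, e⟩ := span hel hcard hgT hhT hg1 hnot _ (hxT g hgT)
    have h1 : z * (x * g * x⁻¹) * z⁻¹ = (x * g * x⁻¹)⁻¹ := by
      rw [hzx, hginv, show x * g⁻¹ * x⁻¹ = (x * g * x⁻¹)⁻¹ by group]
    rw [e, show z * (g ^ i * h ^ j) * z⁻¹ = (z * g ^ i * z⁻¹) * (z * h ^ j * z⁻¹) by group, hgi, hhi,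
      mul_inv_rev, hcomm _ (inv_mem (pow_mem hgT i)) _ (pow_mem hhT j)] at h1
    have h2 : h ^ (j + j) = 1 := by
      rw [pow_add]
      exact mul_eq_one_iff_eq_inv.mpr (mul_right_cancel h1)
    have hoh : orderOf h = 3 := by
      haveI := Fact.mk Nat.prime_three
      exact orderOf_eq_prime (hel h hhT) hh1
    have := orderOf_dvd_of_pow_eq_one h2
    rw [hoh] at this
    obtain rfl : j = 0 := by omega
    rw [pow_zero, mul_one] at e
    have h4 := hxx g
    rw [e, ← conj_pow, e, hginv, ← pow_mul] at h4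
    have h5 : g ^ (i * i + 1) = 1 := by rw [pow_succ, h4, inv_mul_cancel]
    have hog : orderOf g = 3 := by
      haveI := Fact.mk Nat.prime_three
      exact orderOf_eq_prime (hel g hgT) hg1
    have := orderOf_dvd_of_pow_eq_one h5
    rw [hog] at this
    interval_cases i <;> omega
  -- a reflection with a fixed point
  obtain ⟨h, hhT, hh1, hsh⟩ : ∃ h ∈ (T : Subgroup G), h ≠ 1 ∧ ι (.sr 0) * h * (ι (.sr 0))⁻¹ = h := by
    by_contra hcon
    push Not at hcon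
    have hs : ∀ t ∈ (T : Subgroup G), ι (.sr 0) * t * (ι (.sr 0))⁻¹ = t⁻¹ := by
      intro t ht
      by_contra hne
      refine hcon (t * (ι (.sr 0) * t * (ι (.sr 0))⁻¹)) (mul_mem ht (hconjT _ t ht))
        (fun e => hne (eq_inv_of_mul_eq_one_right e)) ?_
      rw [show ι (.sr 0) * (t * (ι (.sr 0) * t * (ι (.sr 0))⁻¹)) * (ι (.sr 0))⁻¹ =
          (ι (.sr 0) * t * (ι (.sr 0))⁻¹) *
            (ι (.sr 0) * (ι (.sr 0) * t * (ι (.sr 0))⁻¹) * (ι (.sr 0))⁻¹) by group, ← hcomp,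
        show (DihedralGroup.sr 0 : DihedralGroup 4) * .sr 0 = 1 by decide, map_one]
      simp only [one_mul, inv_one, mul_one]
      exact hcomm _ (hconjT _ t ht) t ht
    have := hfaith (.sr 0 * .r 2) fun t ht => by
      rw [hcomp, hzinv t ht, hs _ (inv_mem ht), inv_inv]
    exact absurd this (by decide)
  set g := ι (.r 1) * h * (ι (.r 1))⁻¹ with hgdef
  have hgT : g ∈ (T : Subgroup G) := hconjT _ h hhT
  have hg1 : g ≠ 1 := fun e => hh1 (conj_eq_one_iff.mp e)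
  have hzh := hzinv h hhT
  have hzg := hzinv g hgT
  have hsg : ι (.sr 0) * g * (ι (.sr 0))⁻¹ = g⁻¹ := by
    rw [hgdef, ← hcomp, show (DihedralGroup.sr 0 : DihedralGroup 4) * .r 1 = .r 1 * (.r 2 * .sr 0) by decide,
      hcomp, hcomp, hsh, hzh, show ι (.r 1) * h⁻¹ * (ι (.r 1))⁻¹ = (ι (.r 1) * h * (ι (.r 1))⁻¹)⁻¹ by group]
  have hgb : ι (.sr 2) * g * (ι (.sr 2))⁻¹ = g := by
    rw [show (DihedralGroup.sr 2 : DihedralGroup 4) = .r 2 * .sr 0 by decide, hcomp, hsg,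
      hzinv _ (inv_mem hgT), inv_inv]
  have hhb : ι (.sr 2) * h * (ι (.sr 2))⁻¹ = h⁻¹ := by
    rw [show (DihedralGroup.sr 2 : DihedralGroup 4) = .r 2 * .sr 0 by decide, hcomp, hsh, hzh]
  have hwg : ι (.r 1 * .sr 0) * g * (ι (.r 1 * .sr 0))⁻¹ = h := by
    rw [hcomp, hsg, show ι (.r 1) * g⁻¹ * (ι (.r 1))⁻¹ = (ι (.r 1) * g * (ι (.r 1))⁻¹)⁻¹ by group, hgdef,
      ← hcomp, show (DihedralGroup.r 1 : DihedralGroup 4) * .r 1 = .r 2 by decide, hzh, inv_inv]
  have hwh : ι (.r 1 * .sr 0) * h * (ι (.r 1 * .sr 0))⁻¹ = g := by rw [hcomp, hsh]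
  have hne : h ∉ zpowers g := by
    intro hm
    obtain ⟨i, hi⟩ := (isOfFinOrder_of_finite g).mem_zpowers_iff_mem_range_orderOf.mp hm |> fun h => by
      simpa using h
    have h2 : ι (.sr 0) * g ^ i * (ι (.sr 0))⁻¹ = (g ^ i)⁻¹ := by rw [← conj_pow, hsg, inv_pow]
    rw [hi.2, hsh] at h2
    have h3 : h * h = 1 := mul_eq_one_iff_eq_inv.mpr h2
    have : h ^ 3 = h := by rw [pow_succ, pow_two, h3, one_mul]
    exact hh1 (this.symm.trans (hel h hhT))
  have hspan := span hel hcard hgT hhT hg1 hne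
  set a := ι (.sr 0) with ha
  set b := ι (.sr 2) with hb
  set w := ι (.r 1 * .sr 0) with hw
  set wz := ι (.r 3 * .sr 0) with hwz
  have hsq : ∀ d : DihedralGroup 4, d * d = 1 → ι d * ι d = 1 := fun d e => by
    rw [← map_mul, e, map_one]
  have hcommι : ∀ c d : DihedralGroup 4, c * d = d * c → Commute (ι c) (ι d) := fun c d e => by
    show ι c * ι d = ι d * ι c
    rw [← map_mul, ← map_mul, e]
  have hghc : Commute g h := hcomm g hgT h hhT
  obtain ⟨φ₁, hφ₁⟩ := exists_hom g a h b (hel g hgT) (hel h hhT) (hsq _ (by decide)) (hsq _ (by decide))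
    hsg hhb hghc (mul_inv_eq_iff_eq_mul.mp hgb).symm (mul_inv_eq_iff_eq_mul.mp hsh)
    (hcommι _ _ (by decide))
  have hwzt : ∀ t ∈ (T : Subgroup G), wz * t * wz⁻¹ = (w * t * w⁻¹)⁻¹ := by
    intro t ht
    rw [hwz, show (DihedralGroup.r 3 * .sr 0 : DihedralGroup 4) = .r 2 * (.r 1 * .sr 0) by decide, hcomp,
      hzinv _ (hconjT _ t ht)]
  have hgh' : g * h⁻¹ = h⁻¹ * g := hghc.inv_right.eq
  have hw1 : w * (g * h) * w⁻¹ = g * h := by
    rw [show w * (g * h) * w⁻¹ = (w * g * w⁻¹) * (w * h * w⁻¹) by group, hwg, hwh, hghc.eq]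
  have hw2 : w * (g * h⁻¹) * w⁻¹ = (g * h⁻¹)⁻¹ := by
    rw [show w * (g * h⁻¹) * w⁻¹ = (w * g * w⁻¹) * (w * h * w⁻¹)⁻¹ by group, hwg, hwh]
    exact eq_inv_of_mul_eq_one_left (by rw [mul_assoc, inv_mul_cancel_left, mul_inv_cancel])
  obtain ⟨φ₂, hφ₂⟩ := exists_hom (g * h) wz (g * h⁻¹) w
    (hel _ (mul_mem hgT hhT)) (hel _ (mul_mem hgT (inv_mem hhT))) (hsq _ (by decide)) (hsq _ (by decide))
    (by rw [hwzt _ (mul_mem hgT hhT), hw1]) hw2
    (hcomm _ (mul_mem hgT hhT) _ (mul_mem hgT (inv_mem hhT)))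
    (mul_inv_eq_iff_eq_mul.mp hw1).symm
    (mul_inv_eq_iff_eq_mul.mp (by rw [hwzt _ (mul_mem hgT (inv_mem hhT)), hw2, inv_inv]))
    (hcommι _ _ (by decide))
  have hp : ∀ (u : G) (hu : u ^ 3 = 1) (i j : ZMod 3), u ^ (i + j).val = u ^ i.val * u ^ j.val := by
    intro u hu i j
    rw [← pow_add, ZMod.val_add]
    conv_rhs => rw [← Nat.mod_add_div (i.val + j.val) 3, pow_add, pow_mul, hu, one_pow, mul_one]
  have hrot : ∀ i j, φ₂ (.r i, .r j) = φ₁ (.r (i + j), .r (i - j)) := by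
    intro i j
    rw [hφ₁, hφ₂]
    show (g * h) ^ i.val * (g * h⁻¹) ^ j.val = g ^ (i + j).val * h ^ (i - j).val
    have hneg : h ^ (-j).val = (h⁻¹) ^ j.val := by
      rw [inv_pow]
      refine (inv_eq_of_mul_eq_one_right ?_).symm
      rw [← hp h (hel h hhT), add_neg_cancel, ZMod.val_zero, pow_zero]
    rw [hghc.mul_pow, (hghc.inv_right).mul_pow, sub_eq_add_neg, hp g (hel g hgT), hp h (hel h hhT), hneg]
    have := (hghc.pow_pow j.val i.val).eq
    calc g ^ i.val * h ^ i.val * (g ^ j.val * h⁻¹ ^ j.val)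
        = g ^ i.val * (h ^ i.val * g ^ j.val) * h⁻¹ ^ j.val := by group
      _ = _ := by rw [← this]; group
  have hval : ∀ (g' a' h' b' : G), g' ∈ normalizer ((T : Subgroup G) : Set G) →
      a' ∈ normalizer ((T : Subgroup G) : Set G) → h' ∈ normalizer ((T : Subgroup G) : Set G) →
      b' ∈ normalizer ((T : Subgroup G) : Set G) → ∀ p, val g' a' h' b' p ∈ normalizer ((T : Subgroup G) : Set G) := by
    rintro g' a' h' b' h1 h2 h3 h4 ⟨i | i, j | j⟩
    · exact mul_mem (pow_mem h1 _) (pow_mem h3 _)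
    · exact mul_mem (pow_mem h1 _) (mul_mem h4 (pow_mem h3 _))
    · exact mul_mem (mul_mem h2 (pow_mem h1 _)) (pow_mem h3 _)
    · exact mul_mem (mul_mem h2 (pow_mem h1 _)) (mul_mem h4 (pow_mem h3 _))
  have hrotmem : ∀ i j, φ₁ (.r i, .r j) ∈ (T : Subgroup G) := fun i j => by
    rw [hφ₁]
    exact mul_mem (pow_mem hgT _) (pow_mem hhT _)
  have hmemT : ∀ t ∈ (T : Subgroup G), ∃ i j, φ₁ (.r i, .r j) = t := by
    intro t ht
    obtain ⟨i, j, hi, hj, rfl⟩ := hspan t ht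
    refine ⟨i, j, ?_⟩
    rw [hφ₁]
    show g ^ (i : ZMod 3).val * h ^ (j : ZMod 3).val = _
    rw [ZMod.val_natCast, ZMod.val_natCast, Nat.mod_eq_of_lt hi, Nat.mod_eq_of_lt hj]
  have hzero : ∀ (g' a' h' b' : G), val g' a' h' b' ((.sr 0, .sr 0) : D × D) = a' * b' ∧
      val g' a' h' b' ((1, .sr 0) : D × D) = b' := fun g' a' h' b' => by
    constructor
    · show a' * g' ^ (0 : ZMod 3).val * (b' * h' ^ (0 : ZMod 3).val) = a' * b'
      simp
    · show g' ^ (0 : ZMod 3).val * (b' * h' ^ (0 : ZMod 3).val) = b'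
      simp
  have hinj : ∀ φ : D × D →* G, (∀ i j, φ (.r i, .r j) = 1 → i = 0 ∧ j = 0) →
      φ (.sr 0, 1) ∉ (T : Subgroup G) → φ (1, .sr 0) ∉ (T : Subgroup G) →
      φ (.sr 0, .sr 0) ∉ (T : Subgroup G) → (∀ i j, φ (.r i, .r j) ∈ (T : Subgroup G)) →
      Function.Injective φ := by
    intro φ h0 h1 h2 h3 h4
    rw [injective_iff_map_eq_one]
    intro p hp
    have key : ∀ p : D × D, (∃ i j, p = (.r i, .r j)) ∨ (∃ i j, p = (.sr 0, 1) * (.r i, .r j)) ∨
        (∃ i j, p = (1, .sr 0) * (.r i, .r j)) ∨ ∃ i j, p = (.sr 0, .sr 0) * (.r i, .r j) := by decide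
    rcases key p with ⟨i, j, rfl⟩ | ⟨i, j, rfl⟩ | ⟨i, j, rfl⟩ | ⟨i, j, rfl⟩
    · obtain ⟨rfl, rfl⟩ := h0 i j hp
      rfl
    all_goals
      rw [map_mul, mul_eq_one_iff_eq_inv] at hp
    · exact absurd (hp ▸ inv_mem (h4 i j)) h1
    · exact absurd (hp ▸ inv_mem (h4 i j)) h2
    · exact absurd (hp ▸ inv_mem (h4 i j)) h3
  have hnotT : ∀ d : DihedralGroup 4, d ≠ 1 → ι d ∉ (T : Subgroup G) := by
    intro d hd hm
    have h8 : ∀ d : DihedralGroup 4, d ^ 3 = 1 → d = 1 := by decide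
    exact hd (h8 d (hιinj (by rw [map_pow, hel _ hm, map_one])))
  have hcard9 : ∀ i j, φ₁ (.r i, .r j) = 1 → i = 0 ∧ j = 0 := by
    have hsurj : Function.Surjective fun p : ZMod 3 × ZMod 3 =>
        (⟨φ₁ (.r p.1, .r p.2), hrotmem _ _⟩ : (T : Subgroup G)) := fun t => by
      obtain ⟨i, j, e⟩ := hmemT t.1 t.2
      exact ⟨(i, j), Subtype.ext e⟩
    have hbij := hsurj.bijective_of_nat_card_le (by rw [hcard, Nat.card_prod]; simp)
    intro i j e
    have h1 := @hbij.1 (i, j) (0, 0) (Subtype.ext (e.trans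
      (show (1 : G) = φ₁ (.r (0 : ZMod 3), .r (0 : ZMod 3)) from (map_one φ₁).symm)))
    exact ⟨congrArg Prod.fst h1, congrArg Prod.snd h1⟩
  have e10 : ((.sr 0, 1) : D × D) = (.sr 0, .r 0) := rfl
  refine ⟨⟨φ₁, φ₂, hinj φ₁ hcard9 ?_ ?_ ?_ hrotmem, hinj φ₂ ?_ ?_ ?_ ?_ ?_, fun p => ?_, fun p => ?_, h72,
    hmemT, hrotmem, hrot, ?_, ?_, ?_⟩⟩
  · rw [e10, hφ₁]; simpa [val] using hnotT (.sr 0) (by decide)
  · rw [hφ₁, (hzero g a h b).2]; exact hnotT _ (by decide)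
  · rw [hφ₁, (hzero g a h b).1, ha, hb, ← map_mul]; exact hnotT _ (by decide)
  · intro i j hij
    rw [hrot] at hij
    obtain ⟨h1, h2⟩ := hcard9 _ _ hij
    have key : ∀ i j : ZMod 3, i + j = 0 → i - j = 0 → i = 0 ∧ j = 0 := by decide
    exact key i j h1 h2
  · rw [e10, hφ₂]
    show wz * (g * h) ^ (0 : ZMod 3).val * (g * h⁻¹) ^ (0 : ZMod 3).val ∉ (T : Subgroup G)
    rw [ZMod.val_zero, pow_zero, pow_zero, mul_one, mul_one]
    exact hnotT _ (by decide)
  · rw [hφ₂, (hzero _ wz _ w).2]; exact hnotT _ (by decide)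
  · rw [hφ₂, (hzero _ wz _ w).1, hw, hwz, ← map_mul]; exact hnotT _ (by decide)
  · intro i j
    rw [hrot]
    exact hrotmem _ _
  · rw [hφ₁]
    exact hval _ _ _ _ (Subgroup.le_normalizer hgT) (hιN _) (Subgroup.le_normalizer hhT) (hιN _) p
  · rw [hφ₂]
    exact hval _ _ _ _ (Subgroup.le_normalizer (mul_mem hgT hhT)) (hιN _)
      (Subgroup.le_normalizer (mul_mem hgT (inv_mem hhT))) (hιN _) p
  · rw [hφ₁, hφ₂, (hzero _ wz _ w).1, (hzero g a h b).1, hw, hwz, ha, hb, ← map_mul, ← map_mul]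
    exact congrArg ι (by decide)
  · intro p
    rw [hφ₂, (hzero _ wz _ w).2, hφ₁, hφ₁]
    have hwa : w * a * w⁻¹ = b := by
      rw [hw, ha, hb, ← map_inv, ← map_mul, ← map_mul]; exact congrArg ι (by decide)
    have hwb : w * b * w⁻¹ = a := by
      rw [hw, ha, hb, ← map_inv, ← map_mul, ← map_mul]; exact congrArg ι (by decide)
    have hag : ∀ n : ℕ, Commute (g ^ n) b := fun n =>
      Commute.pow_left (a := g) (b := b) (mul_inv_eq_iff_eq_mul.mp hgb).symm n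
    have hah : ∀ n : ℕ, Commute a (h ^ n) := fun n =>
      Commute.pow_right (a := a) (b := h) (mul_inv_eq_iff_eq_mul.mp hsh) n
    have hgh2 : ∀ m n : ℕ, Commute (g ^ m) (h ^ n) := fun m n => hghc.pow_pow m n
    have hab : Commute a b := hcommι _ _ (by decide)
    have hg' : ∀ n : ℕ, w * g ^ n * w⁻¹ = h ^ n := fun n => by rw [← conj_pow, hwg]
    have hh' : ∀ n : ℕ, w * h ^ n * w⁻¹ = g ^ n := fun n => by rw [← conj_pow, hwh]
    obtain ⟨i | i, j | j⟩ := p
    · show w * (g ^ i.val * h ^ j.val) * w⁻¹ = g ^ j.val * h ^ i.val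
      rw [← conj_mul, hg', hh', (hgh2 j.val i.val).eq]
    · show w * (g ^ i.val * (b * h ^ j.val)) * w⁻¹ = a * g ^ j.val * h ^ i.val
      rw [← conj_mul, ← conj_mul, hg', hh', hwb]
      exact (((hah i.val).symm.mul_right (hgh2 j.val i.val).symm)).eq
    · show w * (a * g ^ i.val * h ^ j.val) * w⁻¹ = g ^ j.val * (b * h ^ i.val)
      rw [← conj_mul, ← conj_mul, hg', hh', hwa]
      exact ((((hag j.val).symm.mul_left (hgh2 j.val i.val).symm))).eq
    · show w * (a * g ^ i.val * (b * h ^ j.val)) * w⁻¹ = a * g ^ j.val * (b * h ^ i.val)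
      rw [← conj_mul, ← conj_mul, ← conj_mul, hg', hh', hwa, hwb]
      exact (((hab.symm.mul_right (hag j.val).symm)).mul_left
        ((hah i.val).symm.mul_right (hgh2 j.val i.val).symm)).eq
  · intro p
    rw [hφ₁, (hzero g a h b).2, hφ₂, hφ₂]
    set u := g * h with hu
    set v := g * h⁻¹ with hv
    have hbu : b * u * b⁻¹ = v := by
      rw [hu, hv, show b * (g * h) * b⁻¹ = (b * g * b⁻¹) * (b * h * b⁻¹) by group, hgb, hhb]
    have hbv : b * v * b⁻¹ = u := by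
      rw [hu, hv, show b * (g * h⁻¹) * b⁻¹ = (b * g * b⁻¹) * (b * h * b⁻¹)⁻¹ by group, hgb, hhb, inv_inv]
    have hba : b * wz * b⁻¹ = w := by
      rw [hw, hwz, hb, ← map_inv, ← map_mul, ← map_mul]; exact congrArg ι (by decide)
    have hbw : b * w * b⁻¹ = wz := by
      rw [hw, hwz, hb, ← map_inv, ← map_mul, ← map_mul]; exact congrArg ι (by decide)
    have hwu : ∀ n : ℕ, Commute (u ^ n) w := fun n =>
      Commute.pow_left (a := u) (b := w) (mul_inv_eq_iff_eq_mul.mp hw1).symm n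
    have hwv : ∀ n : ℕ, Commute wz (v ^ n) := fun n =>
      Commute.pow_right (a := wz) (b := v) (mul_inv_eq_iff_eq_mul.mp
        (by rw [hwzt _ (mul_mem hgT (inv_mem hhT)), hw2, inv_inv])) n
    have huv : ∀ m n : ℕ, Commute (u ^ m) (v ^ n) := fun m n =>
      Commute.pow_pow (a := u) (b := v) (hcomm _ (mul_mem hgT hhT) _ (mul_mem hgT (inv_mem hhT))) m n
    have hwwz : Commute wz w := hcommι _ _ (by decide)
    have hu' : ∀ n : ℕ, b * u ^ n * b⁻¹ = v ^ n := fun n => by rw [← conj_pow, hbu]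
    have hv' : ∀ n : ℕ, b * v ^ n * b⁻¹ = u ^ n := fun n => by rw [← conj_pow, hbv]
    obtain ⟨i | i, j | j⟩ := p
    · show b * (u ^ i.val * v ^ j.val) * b⁻¹ = u ^ j.val * v ^ i.val
      rw [← conj_mul, hu', hv', (huv j.val i.val).eq]
    · show b * (u ^ i.val * (w * v ^ j.val)) * b⁻¹ = wz * u ^ j.val * v ^ i.val
      rw [← conj_mul, ← conj_mul, hu', hv', hbw]
      exact (((hwv i.val).symm.mul_right (huv j.val i.val).symm)).eq
    · show b * (wz * u ^ i.val * v ^ j.val) * b⁻¹ = u ^ j.val * (w * v ^ i.val)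
      rw [← conj_mul, ← conj_mul, hu', hv', hba]
      exact ((((hwu j.val).symm.mul_left (huv j.val i.val).symm))).eq
    · show b * (wz * u ^ i.val * (w * v ^ j.val)) * b⁻¹ = wz * u ^ j.val * (w * v ^ i.val)
      rw [← conj_mul, ← conj_mul, ← conj_mul, hu', hv', hba, hbw]
      exact (((hwwz.symm.mul_right (hwu j.val).symm)).mul_left
        ((hwv i.val).symm.mul_right (huv j.val i.val).symm)).eq

end Cfsg.Agent.Fus.NineDihedral
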