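import Mathlib
import Cfsg.Agent.Lib.Fus.NineDihedral.Model
import Cfsg.Agent.Lib.Char.Constituent
import Cfsg.Agent.Lib.Char.Induce

/-!
The generalized characters induced from the two copies of `D₃ × D₃` and their values.
-/

set_option autoImplicit false
set_option linter.style.haveILetI false
set_option linter.unusedSectionVars false
set_option linter.unusedVariables false
set_option maxRecDepth 20000

namespace Cfsg.Agent.Fus.NineDihedral

open Subgroup DihedralGroup Cfsg Cfsg.Agent.Char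
open scoped ComplexConjugate

universe u

/-- The sign of an element of `D₃`, or one. -/
def sg : Bool → D → ℤ
  | false, _ => 1
  | true, .r _ => 1
  | true, .sr _ => -1

/-- `1 + sgn − π` on `D₃`. -/
def ee : D → ℤ
  | .r i => if i = 0 then 0 else 3
  | .sr _ => 0

/-- The function which is induced. -/
def psi (s : Bool) (p : D × D) : ℤ := sg s p.1 * ee p.2

/-- The change of coordinates on rotations. -/
def conv : D × D → D × D
  | (.r i, .r j) => (.r (2 * (i + j)), .r (2 * (i - j)))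
  | (.sr i, .sr j) => (.sr (2 * (i + j)), .sr (2 * (i - j)))
  | p => p

/-- Both components are rotations. -/
def bothRot : D × D → Bool
  | (.r _, .r _) => true
  | _ => false

/-- The induced function in its own coordinates. -/
def val1 (s : Bool) (p : D × D) : ℤ := psi s p + psi s p.swap

/-- The induced function of the other coordinate system. -/
def val2 (s : Bool) (p : D × D) : ℤ := if bothRot p then val1 s (conv p) else 0

theorem psi_conj (s : Bool) (p q : D × D) : psi s (q⁻¹ * p * q) = psi s p := by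
  have h1 : ∀ (s : Bool) (a b : D), sg s (b⁻¹ * a * b) = sg s a := by decide
  have h2 : ∀ a b : D, ee (b⁻¹ * a * b) = ee a := by decide
  simp only [psi, Prod.fst_mul, Prod.snd_mul, Prod.fst_inv, Prod.snd_inv, h1, h2]

theorem psi_support (s : Bool) (p : D × D) (h : psi s p ≠ 0) : (p ^ 4) ^ 3 = 1 ∧ p ^ 4 ≠ 1 := by
  have key : ∀ p : D × D, ee p.2 ≠ 0 → (p ^ 4) ^ 3 = 1 ∧ p ^ 4 ≠ 1 := by decide
  exact key p fun e => h (by rw [psi, e, mul_zero])

/-- The sign character of `D₃`. -/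
def sgnD : D →* ℂˣ where
  toFun d := match d with
    | .r _ => 1
    | .sr _ => -1
  map_one' := rfl
  map_mul' := by rintro (i | i) (j | j) <;> simp

theorem sgnD_eq (d : D) : (sgnD d : ℂ) = (sg true d : ℂ) := by
  rcases d with i | i
  · show ((1 : ℂˣ) : ℂ) = ((1 : ℤ) : ℂ)
    simp
  · show ((-1 : ℂˣ) : ℂ) = ((-1 : ℤ) : ℂ)
    simp

theorem psi_isGenChar (s : Bool) :
    IsGeneralizedCharacter (D × D) (fun p => (psi s p : ℂ)) := by
  classical
  have hlin : ∀ l : D →* ℂˣ, IsGeneralizedCharacter D (fun d => (l d : ℂ)) := fun l =>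
    IsGenChar.of_isCharacter (IsIrr.isCharacter (isIrr_linear l))
  have hsg : IsGeneralizedCharacter D (fun d => (sg s d : ℂ)) := by
    cases s
    · have e : (fun d : D => (sg false d : ℂ)) = fun _ => (1 : ℂ) := funext fun d => by simp [sg]
      rw [e]; exact IsGenChar.of_isCharacter IsChar.one
    · have e : (fun d : D => (sg true d : ℂ)) = fun d => (sgnD d : ℂ) :=
        funext fun d => (sgnD_eq d).symm
      rw [e]; exact hlin sgnD
  set Q := zpowers (sr 0 : D)
  have hperm : ∀ d : D, indFun Q (fun _ => (1 : ℂ)) d = 2 + (sgnD d : ℂ) - 1 + 1 - (ee d : ℂ) := by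
    intro d
    have hQ : ∀ x : D, x ∈ Q ↔ (x = 1 ∨ x = sr 0) := by
      intro x
      constructor
      · intro hx
        obtain ⟨k, hk, rfl⟩ : ∃ k, k < 2 ∧ (sr 0 : D) ^ k = x := by
          rw [(isOfFinOrder_of_finite _).mem_zpowers_iff_mem_range_orderOf, orderOf_sr] at hx
          simpa using hx
        interval_cases k <;> simp
      · rintro (rfl | rfl)
        · exact one_mem _
        · exact mem_zpowers _
    show (Nat.card Q : ℂ)⁻¹ * ∑ x : D, extendByZero Q (fun _ => (1 : ℂ)) (x⁻¹ * d * x) = _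
    have e1 : ∀ x : D, extendByZero Q (fun _ => (1 : ℂ)) (x⁻¹ * d * x) =
        if x⁻¹ * d * x = 1 ∨ x⁻¹ * d * x = sr 0 then (1 : ℂ) else 0 := fun x => by
      split_ifs with h
      · exact extendByZero_of_mem _ ((hQ _).mpr h)
      · exact extendByZero_not_mem _ fun h' => h ((hQ _).mp h')
    rw [Nat.card_zpowers, orderOf_sr, Finset.sum_congr rfl fun x _ => e1 x, Finset.sum_boole]
    have key : ∀ d : D, ((Finset.univ.filter fun x : D =>
        x⁻¹ * d * x = 1 ∨ x⁻¹ * d * x = sr 0).card : ℤ) = 2 * (2 + sg true d - ee d) := by decide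
    rw [show (((Finset.univ.filter fun x : D => x⁻¹ * d * x = 1 ∨ x⁻¹ * d * x = sr 0).card : ℕ) : ℂ) =
      ((2 * (2 + sg true d - ee d) : ℤ) : ℂ) by rw [← key d]; simp]
    rw [sgnD_eq]
    push_cast
    ring
  have hee : IsGeneralizedCharacter D (fun d => (ee d : ℂ)) := by
    have e : (fun d : D => (ee d : ℂ)) =
        ((2 : ℤ) : ℂ) • (fun _ : D => (1 : ℂ)) + (fun d => (sgnD d : ℂ)) - indFun Q (fun _ => (1 : ℂ)) := by
      funext d
      simp only [Pi.add_apply, Pi.sub_apply, Pi.smul_apply, smul_eq_mul, hperm]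
      push_cast
      ring
    rw [e]
    exact IsGenChar.sub (IsGenChar.add (IsGenChar.zsmul (IsGenChar.of_isCharacter IsChar.one) 2)
      (hlin sgnD)) (IsGenChar.ind Q (IsGenChar.of_isCharacter IsChar.one))
  have e : (fun p : D × D => (psi s p : ℂ)) =
      (fun p : D × D => (sg s ((MonoidHom.fst D D) p) : ℂ)) *
        fun p : D × D => (ee ((MonoidHom.snd D D) p) : ℂ) := by
    funext p
    simp [psi]
  rw [e]
  exact IsGenChar.mul (IsGenChar.comp (MonoidHom.fst D D) hsg) (IsGenChar.comp (MonoidHom.snd D D) hee)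

variable {G : Type u} [Group G] {T : Sylow 3 G}

/-- The pair with the two coordinate systems interchanged. -/
def Pair.symm (P : Pair G T) : Pair G T where
  φ₁ := P.φ₂
  φ₂ := P.φ₁.comp (MulAut.conj ((sr 0, sr 0) : D × D)).toMonoidHom
  inj₁ := P.inj₂
  inj₂ := P.inj₁.comp (MulAut.conj ((sr 0, sr 0) : D × D)).injective
  le₁ := P.le₂
  le₂ p := P.le₁ _
  card_N := P.card_N
  memT t ht := by
    obtain ⟨i, j, e⟩ := P.memT t ht
    refine ⟨2 * (i + j), 2 * (i - j), ?_⟩
    have key : ∀ i j : ZMod 3, ((r (2 * (i + j) + 2 * (i - j)), r (2 * (i + j) - 2 * (i - j))) : D × D) =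
      (r i, r j) := by decide
    rw [P.rot, key, e]
  rot_mem i j := by rw [P.rot]; exact P.rot_mem _ _
  rot i j := by
    have key : ∀ i j : ZMod 3, ((sr 0, sr 0) : D × D) * (r i, r j) * (sr 0, sr 0)⁻¹ =
      (r ((i + j) + (i - j)), r ((i + j) - (i - j))) := by decide
    show P.φ₁ (_ * _ * _) = _
    rw [key, P.rot]
  zz := by
    show P.φ₁ (_ * _ * _) = _
    rw [show ((sr 0, sr 0) : D × D) * (sr 0, sr 0) * (sr 0, sr 0)⁻¹ = (sr 0, sr 0) by decide, P.zz]
  swap₁ p := by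
    show P.φ₁ (_ * _ * _) * P.φ₂ p * (P.φ₁ (_ * _ * _))⁻¹ = _
    rw [show ((sr 0, sr 0) : D × D) * (1, sr 0) * (sr 0, sr 0)⁻¹ = (1, sr 0) by decide, P.swap₂]
  swap₂ p := by
    show P.φ₂ (1, sr 0) * P.φ₁ (_ * p * _) * (P.φ₂ (1, sr 0))⁻¹ = P.φ₁ (_ * p.swap * _)
    rw [P.swap₁]
    exact congrArg P.φ₁ (Prod.ext rfl rfl)

variable [Fintype G]

/-- The induced generalized character. -/
noncomputable def Psi (P : Pair G T) (s : Bool) : G → ℂ :=
  indFun P.φ₁.range fun x => (psi s ((MonoidHom.ofInjective P.inj₁).symm x) : ℂ)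

theorem isGenChar_Psi (P : Pair G T) (s : Bool) : IsGeneralizedCharacter G (Psi P s) :=
  IsGenChar.ind _ (IsGenChar.comp (MonoidHom.ofInjective P.inj₁).symm.toMonoidHom (psi_isGenChar s))

theorem ext_apply (P : Pair G T) (s : Bool) (p : D × D) :
    extendByZero P.φ₁.range (fun x => (psi s ((MonoidHom.ofInjective P.inj₁).symm x) : ℂ)) (P.φ₁ p) =
      (psi s p : ℂ) := by
  rw [extendByZero_of_mem _ (show P.φ₁ p ∈ P.φ₁.range from ⟨p, rfl⟩),
    show (⟨P.φ₁ p, _⟩ : P.φ₁.range) = MonoidHom.ofInjective P.inj₁ p from Subtype.ext rfl,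
    MulEquiv.symm_apply_apply]

/-- Where the induced function can be nonzero. -/
theorem exists_of_ext_ne (P : Pair G T) (s : Bool) {y : G}
    (h : extendByZero P.φ₁.range (fun x => (psi s ((MonoidHom.ofInjective P.inj₁).symm x) : ℂ)) y ≠ 0) :
    ∃ q, P.φ₁ q = y ∧ psi s q ≠ 0 := by
  by_cases hy : y ∈ P.φ₁.range
  · obtain ⟨q, rfl⟩ := hy
    rw [ext_apply] at h
    exact ⟨q, rfl, Int.cast_ne_zero.mp h⟩
  · exact absurd (extendByZero_not_mem _ hy) h

theorem four_mem (P : Pair G T) {q : D × D} (h : (q ^ 4) ^ 3 = 1) :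
    P.φ₁ q ^ 4 ∈ (T : Subgroup G) := by
  have key : ∀ p : D × D, p ^ 3 = 1 → ∃ i j, p = (r i, r j) := by decide
  obtain ⟨i, j, e⟩ := key _ h
  rw [← map_pow, e]
  exact P.rot_mem _ _

theorem mem_T_of_cube (P : Pair G T) {y : G} (hy : y ∈ normalizer ((T : Subgroup G) : Set G))
    (h3 : y ^ 3 = 1) : y ∈ (T : Subgroup G) := by
  have hy' : IsPGroup 3 (zpowers y) := by
    intro z
    obtain ⟨k, hk⟩ := mem_zpowers_iff.mp z.2
    refine ⟨1, Subtype.ext ?_⟩
    rw [pow_one, SubmonoidClass.coe_pow, ← hk, ← zpow_natCast, ← zpow_mul, mul_comm, zpow_mul,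
      zpow_natCast, h3, one_zpow]
    rfl
  have hsup := IsPGroup.to_sup_of_normal_right' hy' T.isPGroup' (zpowers_le.mpr hy)
  have := T.is_maximal' hsup le_sup_right
  rw [← this]
  exact (le_sup_left : zpowers y ≤ _) (mem_zpowers y)

/-- Centralizers of nontrivial elements of the plane lie in its normalizer. -/
abbrev Loc (T : Sylow 3 G) : Prop :=
  ∀ t ∈ (T : Subgroup G), t ≠ 1 → centralizer {t} ≤ normalizer ((T : Subgroup G) : Set G)

theorem commT (P : Pair G T) {s t : G} (hs : s ∈ (T : Subgroup G)) (ht : t ∈ (T : Subgroup G)) :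
    s * t = t * s := by
  obtain ⟨i, j, rfl⟩ := P.memT s hs
  obtain ⟨k, l, rfl⟩ := P.memT t ht
  rw [← map_mul, ← map_mul]
  exact congrArg P.φ₁ (Prod.ext (by simp [add_comm]) (by simp [add_comm]))

theorem cubeT (P : Pair G T) {t : G} (ht : t ∈ (T : Subgroup G)) : t ^ 3 = 1 := by
  obtain ⟨i, j, rfl⟩ := P.memT t ht
  have key : ∀ i j : ZMod 3, ((r i, r j) : D × D) ^ 3 = 1 := by decide
  rw [← map_pow, key, map_one]

theorem mem_N_of_conj (P : Pair G T) (hloc : Loc T) {x t : G} (ht : t ∈ (T : Subgroup G)) (ht1 : t ≠ 1)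
    (hx : x * t * x⁻¹ ∈ (T : Subgroup G)) : x ∈ normalizer ((T : Subgroup G) : Set G) := by
  have h1 : x * t * x⁻¹ ≠ 1 := fun e => ht1 (conj_eq_one_iff.mp e)
  have hmap : (T : Subgroup G).map (MulAut.conj x).toMonoidHom ≤ T := by
    rintro _ ⟨s, hs, rfl⟩
    show x * s * x⁻¹ ∈ (T : Subgroup G)
    refine mem_T_of_cube P (hloc _ hx h1 (Subgroup.mem_centralizer_singleton_iff.mpr ?_)) ?_
    · rw [show x * s * x⁻¹ * (x * t * x⁻¹) = x * (s * t) * x⁻¹ by group, commT P hs ht]
      group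
    · rw [conj_pow, cubeT P hs, mul_one, mul_inv_cancel]
  have heq : (T : Subgroup G).map (MulAut.conj x).toMonoidHom = T :=
    Subgroup.eq_of_le_of_card_ge hmap
      (le_of_eq (Subgroup.card_map_of_injective (MulAut.conj x).injective).symm)
  refine Subgroup.mem_normalizer_iff.mpr fun s => ⟨fun hs => hmap ⟨s, hs, rfl⟩, fun hs => ?_⟩
  rw [← heq] at hs
  obtain ⟨u, hu, he⟩ := hs
  rwa [(MulAut.conj x).injective he] at hu

/-- An element inverting a point of the support lies in the normalizer. -/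
theorem mem_N_of_invert (P : Pair G T) (hloc : Loc T) (s : Bool) {q : D × D} (hq : psi s q ≠ 0) {x : G}
    (hx : x * P.φ₁ q * x⁻¹ = (P.φ₁ q)⁻¹) : x ∈ normalizer ((T : Subgroup G) : Set G) := by
  obtain ⟨h1, h2⟩ := psi_support s q hq
  refine mem_N_of_conj P hloc (four_mem P h1) (fun e => h2 (P.inj₁ (by rw [map_pow, e, map_one]))) ?_
  rw [← conj_pow, hx, inv_pow]
  exact inv_mem (four_mem P h1)

theorem range_le (P : Pair G T) : P.φ₁.range ≤ normalizer ((T : Subgroup G) : Set G) := by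
  rintro _ ⟨p, rfl⟩
  exact P.le₁ p

theorem card_range (P : Pair G T) : Nat.card P.φ₁.range = 36 := by
  rw [← Nat.card_congr (MonoidHom.ofInjective P.inj₁).toEquiv, Nat.card_prod, DihedralGroup.nat_card]

theorem index_two (P : Pair G T) :
    (P.φ₁.range.subgroupOf (normalizer ((T : Subgroup G) : Set G))).index = 2 := by
  have h := (P.φ₁.range.subgroupOf (normalizer ((T : Subgroup G) : Set G))).card_mul_index
  rw [Nat.card_congr (Subgroup.subgroupOfEquivOfLe (range_le P)).toEquiv, card_range, P.card_N] at h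
  omega

theorem w_not_mem (P : Pair G T) : P.φ₂ (1, sr 0) ∉ P.φ₁.range := by
  rintro ⟨q, hq⟩
  have h := P.swap₁ (1, r 1)
  rw [← hq, ← map_mul, ← map_inv, ← map_mul] at h
  have key : ∀ q : D × D, q * (1, r 1) * q⁻¹ ≠ ((1, r 1) : D × D).swap := by decide
  exact key q (P.inj₁ h)

theorem w_sq (P : Pair G T) : P.φ₂ (1, sr 0) * P.φ₂ (1, sr 0) = 1 := by
  rw [← map_mul, show ((1, sr 0) * (1, sr 0) : D × D) = 1 by decide, map_one]

theorem cosets (P : Pair G T) {x : G} (hx : x ∈ normalizer ((T : Subgroup G) : Set G)) :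
    (∃ q, P.φ₁ q = x) ∨ ∃ q, P.φ₂ (1, sr 0) * P.φ₁ q = x := by
  by_cases h : x ∈ P.φ₁.range
  · exact Or.inl h
  · right
    have hw : (⟨P.φ₂ (1, sr 0), P.le₂ _⟩ : normalizer ((T : Subgroup G) : Set G)) ∉
        P.φ₁.range.subgroupOf (normalizer ((T : Subgroup G) : Set G)) := w_not_mem P
    have h2 := (Subgroup.mul_mem_iff_of_index_two (index_two P)
      (a := (⟨P.φ₂ (1, sr 0), P.le₂ _⟩ : normalizer ((T : Subgroup G) : Set G)))
      (b := ⟨x, hx⟩)).mpr ⟨fun e => absurd e hw, fun e => absurd e h⟩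
    obtain ⟨q, hq⟩ : ∃ q, P.φ₁ q = P.φ₂ (1, sr 0) * x := h2
    exact ⟨q, by rw [hq, ← mul_assoc, w_sq, one_mul]⟩

theorem conj_coset (P : Pair G T) (p q : D × D) :
    (P.φ₂ (1, sr 0) * P.φ₁ q)⁻¹ * P.φ₁ p * (P.φ₂ (1, sr 0) * P.φ₁ q) = P.φ₁ (q⁻¹ * p.swap * q) := by
  have hw : (P.φ₂ (1, sr 0))⁻¹ = P.φ₂ (1, sr 0) := inv_eq_of_mul_eq_one_right (w_sq P)
  have h := P.swap₁ p
  rw [hw] at h
  rw [mul_inv_rev, hw, map_mul, map_mul, map_inv, ← h]
  group

/-- The induced function on its own copy. -/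
theorem Psi_apply (P : Pair G T) (hloc : Loc T) (s : Bool) (p : D × D) :
    Psi P s (P.φ₁ p) = (val1 s p : ℂ) := by
  classical
  set θ : P.φ₁.range → ℂ := fun x => (psi s ((MonoidHom.ofInjective P.inj₁).symm x) : ℂ)
  have hterm : ∀ x : G, extendByZero P.φ₁.range θ (x⁻¹ * P.φ₁ p * x) =
      (if x ∈ P.φ₁.range then (psi s p : ℂ) else 0) +
        (if P.φ₂ (1, sr 0) * x ∈ P.φ₁.range then (psi s p.swap : ℂ) else 0) := by
    intro x
    have hex : x ∈ P.φ₁.range → P.φ₂ (1, sr 0) * x ∉ P.φ₁.range := fun h h' =>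
      w_not_mem P (by simpa using mul_mem h' (inv_mem h))
    by_cases hx : x ∈ P.φ₁.range
    · rw [if_pos hx, if_neg (hex hx), add_zero]
      obtain ⟨q, rfl⟩ := hx
      rw [← map_inv, ← map_mul, ← map_mul, ext_apply, psi_conj]
    · by_cases hx' : P.φ₂ (1, sr 0) * x ∈ P.φ₁.range
      · rw [if_neg hx, if_pos hx', zero_add]
        obtain ⟨q, hq⟩ := hx'
        have : x = P.φ₂ (1, sr 0) * P.φ₁ q := by rw [hq, ← mul_assoc, w_sq, one_mul]
        rw [this, conj_coset, ext_apply, psi_conj]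
      · rw [if_neg hx, if_neg hx', add_zero]
        by_contra hne
        obtain ⟨q, hq, hpsi⟩ := exists_of_ext_ne P s hne
        obtain ⟨h1, h2⟩ := psi_support s q hpsi
        have hN : x⁻¹ ∈ normalizer ((T : Subgroup G) : Set G) := by
          have e4 : x⁻¹ * P.φ₁ p ^ 4 * x⁻¹⁻¹ = P.φ₁ q ^ 4 := by
            rw [← conj_pow, inv_inv, hq]
          have hp3 : (P.φ₁ p ^ 4) ^ 3 = 1 := by
            have : (x⁻¹ * P.φ₁ p ^ 4 * x⁻¹⁻¹) ^ 3 = 1 := by
              rw [e4]; exact cubeT P (four_mem P h1)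
            rwa [conj_pow, conj_eq_one_iff] at this
          refine mem_N_of_conj P hloc (four_mem P (P.inj₁ (by rw [map_pow, map_pow, hp3, map_one])))
            (fun e => h2 (P.inj₁ ?_)) (e4 ▸ four_mem P h1)
          rw [map_pow, ← e4, e, map_one, mul_one, mul_inv_cancel]
        rcases cosets P (inv_mem_iff.mp hN) with h | ⟨q', hq'⟩
        · exact hx h
        · exact hx' ⟨q', by rw [← hq', ← mul_assoc, w_sq, one_mul]⟩
  have hc1 : (Finset.univ.filter fun x : G => x ∈ P.φ₁.range).card = 36 := by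
    rw [← card_range P, Nat.card_eq_fintype_card, Fintype.card_subtype]
  have hc2 : (Finset.univ.filter fun x : G => P.φ₂ (1, sr 0) * x ∈ P.φ₁.range).card = 36 := by
    rw [← hc1]
    exact Finset.card_equiv (Equiv.mulLeft (P.φ₂ (1, sr 0))) fun x => by simp
  show (Nat.card P.φ₁.range : ℂ)⁻¹ * ∑ x : G, extendByZero P.φ₁.range θ (x⁻¹ * P.φ₁ p * x) = _
  rw [Finset.sum_congr rfl fun x _ => hterm x, Finset.sum_add_distrib, ← Finset.sum_filter,
    ← Finset.sum_filter, Finset.sum_const, Finset.sum_const, hc1, hc2, card_range, val1]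
  push_cast
  ring

/-- The induced function vanishes on elements of the normalizer outside its copy. -/
theorem Psi_eq_zero (P : Pair G T) (hloc : Loc T) (s : Bool) {y : G}
    (hy : y ∈ normalizer ((T : Subgroup G) : Set G)) (hy' : y ∉ P.φ₁.range) : Psi P s y = 0 := by
  refine indFun_eq_zero_of_not_conj _ _ fun x hx => ?_
  by_contra hne
  obtain ⟨q, hq, hpsi⟩ := exists_of_ext_ne P s (y := x⁻¹ * y * x) (by
    rwa [extendByZero_of_mem _ hx])
  obtain ⟨h1, h2⟩ := psi_support s q hpsi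
  have e4 : x * P.φ₁ q ^ 4 * x⁻¹ = y ^ 4 := by
    rw [hq, show x⁻¹ * y * x = x⁻¹ * y * x⁻¹⁻¹ by rw [inv_inv], conj_pow]; group
  have hxN := mem_N_of_conj P hloc (four_mem P h1) (fun e => h2 (P.inj₁ (by rw [map_pow, e, map_one])))
    (e4 ▸ mem_T_of_cube P (pow_mem hy 4) (by rw [← e4, conj_pow, cubeT P (four_mem P h1)]; group))
  apply hy'
  have hn := (Subgroup.normal_of_index_eq_two (index_two P)).conj_mem
    ⟨x⁻¹ * y * x, range_le P hx⟩ hx ⟨x, hxN⟩
  have hn' : x * (x⁻¹ * y * x) * x⁻¹ ∈ P.φ₁.range := hn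
  rwa [show x * (x⁻¹ * y * x) * x⁻¹ = y by group] at hn'

/-- The induced function vanishes on elements of order dividing four. -/
theorem Psi_eq_zero' (P : Pair G T) (s : Bool) {y : G} (hy : y ^ 4 = 1) : Psi P s y = 0 := by
  refine indFun_eq_zero_of_not_conj _ _ fun x hx => ?_
  by_contra hne
  obtain ⟨q, hq, hpsi⟩ := exists_of_ext_ne P s (y := x⁻¹ * y * x) (by
    rwa [extendByZero_of_mem _ hx])
  refine (psi_support s q hpsi).2 (P.inj₁ ?_)
  rw [map_pow, hq, show x⁻¹ * y * x = x⁻¹ * y * x⁻¹⁻¹ by rw [inv_inv], conj_pow, hy, map_one]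
  group

/-- Membership in the other copy. -/
theorem not_mem_symm (P : Pair G T) {i j : ZMod 3} :
    P.φ₁ (sr i, r j) ∉ P.φ₂.range ∧ P.φ₁ (r i, sr j) ∉ P.φ₂.range := by
  have e : ∀ p : D × D, P.φ₁ p ∈ P.φ₂.range →
      ∃ q : D × D, P.φ₁ p * P.φ₁ (r 1, r 1) * (P.φ₁ p)⁻¹ = P.φ₂ (q * (r 1, 1) * q⁻¹) := by
    rintro p ⟨q, hq⟩
    have h1 : P.φ₁ (r 1, r 1) = P.φ₂ (r 1, 1) := by
      rw [show ((r 1, 1) : D × D) = (r 1, r 0) from rfl, P.rot]
      exact congrArg P.φ₁ (by decide)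
    exact ⟨q, by rw [map_mul, map_mul, map_inv, h1, hq]⟩
  have key : ∀ q : D × D, ∃ k l : ZMod 3, q * (r 1, 1) * q⁻¹ = (r k, r l) ∧ l = 0 := by decide
  constructor <;> intro h <;> obtain ⟨q, hq⟩ := e _ h <;> obtain ⟨k, l, hkl, rfl⟩ := key q <;>
    rw [hkl, P.rot, ← map_inv, ← map_mul, ← map_mul] at hq
  · have key2 : ∀ i j k : ZMod 3, ((sr i, r j) : D × D) * (r 1, r 1) * (sr i, r j)⁻¹ ≠ (r (k + 0), r (k - 0)) := by
      decide
    exact key2 i j k (P.inj₁ hq)
  · have key2 : ∀ i j k : ZMod 3, ((r i, sr j) : D × D) * (r 1, r 1) * (r i, sr j)⁻¹ ≠ (r (k + 0), r (k - 0)) := by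
      decide
    exact key2 i j k (P.inj₁ hq)

theorem conv_spec (P : Pair G T) {p : D × D} :
    (∃ i j, p = (r i, r j)) ∨ (∃ i j, p = (sr i, sr j)) → P.φ₂ (conv p) = P.φ₁ p := by
  rintro (⟨i, j, rfl⟩ | ⟨i, j, rfl⟩)
  · show P.φ₂ (r _, r _) = _
    rw [P.rot]
    have key : ∀ i j : ZMod 3, ((r (2 * (i + j) + 2 * (i - j)), r (2 * (i + j) - 2 * (i - j))) : D × D) =
      (r i, r j) := by decide
    rw [key]
  · show P.φ₂ (sr (2 * (i + j)), sr (2 * (i - j))) = _
    have e : ∀ a b : ZMod 3, ((sr a, sr b) : D × D) = (sr 0, sr 0) * (r a, r b) := by decide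
    rw [e, map_mul, P.zz, P.rot, ← map_mul]
    have key : ∀ i j : ZMod 3, ((sr 0, sr 0) : D × D) * (r (2 * (i + j) + 2 * (i - j)),
      r (2 * (i + j) - 2 * (i - j))) = (sr i, sr j) := by decide
    rw [key]

/-- The other induced function on the first copy. -/
theorem Psi_symm_apply (P : Pair G T) (hloc : Loc T) (s : Bool) (p : D × D) :
    Psi P.symm s (P.φ₁ p) = (val2 s p : ℂ) := by
  obtain ⟨i | i, j | j⟩ := p
  · rw [← conv_spec P (Or.inl ⟨i, j, rfl⟩)]
    exact Psi_apply P.symm hloc s (conv (r i, r j))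
  · rw [Psi_eq_zero P.symm hloc s (P.le₁ _) (not_mem_symm P).2]
    simp [val2, bothRot]
  · rw [Psi_eq_zero P.symm hloc s (P.le₁ _) (not_mem_symm P).1]
    simp [val2, bothRot]
  · rw [Psi_eq_zero' P.symm s (by
      rw [← map_pow]
      have key : ∀ i j : ZMod 3, ((sr i, sr j) : D × D) ^ 4 = 1 := by decide
      rw [key, map_one])]
    simp [val2, bothRot]

theorem classInner_Psi (P : Pair G T) (s : Bool) {f : G → ℂ} (hf : IsClassFunction G f) :
    classInner (Psi P s) f = (36 : ℂ)⁻¹ * ∑ p : D × D, (psi s p : ℂ) * conj (f (P.φ₁ p)) := by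
  classical
  rw [Psi, classInner_indFun _ _ hf]
  simp only [classInner]
  rw [card_range]
  refine congrArg₂ (· * ·) (by norm_num) ?_
  rw [← (MonoidHom.ofInjective P.inj₁).toEquiv.sum_comp]
  refine Finset.sum_congr rfl fun p _ => ?_
  simp only [MulEquiv.toEquiv_eq_coe, EquivLike.coe_coe, MulEquiv.symm_apply_apply]
  rfl

theorem inner_one (P : Pair G T) (s : Bool) :
    classInner (Psi P s) (fun _ => (1 : ℂ)) = if s then 0 else 1 := by
  rw [classInner_Psi P s (IsIrr.classFun isIrr_one)]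
  have key : ∀ s : Bool, ∑ p : D × D, psi s p = if s then 0 else 36 := by decide
  simp only [map_one, mul_one]
  rw [← Int.cast_sum, key]
  cases s <;> norm_num

theorem inner_self (P : Pair G T) (hloc : Loc T) (s t : Bool) :
    classInner (Psi P s) (Psi P t) = if s = t then 4 else 1 := by
  rw [classInner_Psi P s (IsGenChar.classFun (isGenChar_Psi P t))]
  have key : ∀ s t : Bool, ∑ p : D × D, psi s p * val1 t p = if s = t then 144 else 36 := by decide
  simp only [Psi_apply P hloc, map_intCast, ← Int.cast_mul]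
  rw [← Int.cast_sum, key]
  split <;> norm_num

theorem inner_cross (P : Pair G T) (hloc : Loc T) (s t : Bool) :
    classInner (Psi P s) (Psi P.symm t) = 2 := by
  rw [classInner_Psi P s (IsGenChar.classFun (isGenChar_Psi P.symm t))]
  have key : ∀ s t : Bool, ∑ p : D × D, psi s p * val2 t p = 72 := by decide
  simp only [Psi_symm_apply P hloc, map_intCast, ← Int.cast_mul]
  rw [← Int.cast_sum, key]
  norm_num

end Cfsg.Agent.Fus.NineDihedral
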