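import Mathlib
import Cfsg.Agent.Lib.Fus.NineDihedral.Values
import Cfsg.Agent.Lib.Fus.SelfCentThree.Chars
import Cfsg.Agent.Lib.Block.ClassMul

/-!
The classes of involutions meeting the normalizer and the class multiplication equations.
-/

set_option autoImplicit false
set_option linter.style.haveILetI false
set_option linter.unusedSectionVars false
set_option linter.unusedVariables false
set_option maxRecDepth 20000

namespace Cfsg.Agent.Fus.NineDihedral

open Subgroup DihedralGroup Cfsg Cfsg.Agent.Char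
open scoped ComplexConjugate

universe u

/-- The reflections fixing a point. -/
def SA : Finset (D × D) :=
  {(sr 0, 1), (sr 1, 1), (sr 2, 1), (1, sr 0), (1, sr 1), (1, sr 2)}

/-- The involutions inverting the plane. -/
def SZ : Finset (D × D) :=
  {(sr 0, sr 0), (sr 0, sr 1), (sr 0, sr 2), (sr 1, sr 0), (sr 1, sr 1), (sr 1, sr 2),
    (sr 2, sr 0), (sr 2, sr 1), (sr 2, sr 2)}

/-- The inverse change of coordinates. -/
def conv' : D × D → D × D
  | (.r i, .r j) => (.r (i + j), .r (i - j))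
  | p => p

/-- The induced function of the other system, extended by zero, in the coordinates of the first. -/
def psi2 (s : Bool) (p : D × D) : ℤ := if bothRot p then psi s (conv p) else 0

/-- The induced function, extended by zero, in the coordinates of the second system. -/
def psi3 (s : Bool) (p : D × D) : ℤ := if bothRot p then psi s (conv' p) else 0

variable {G : Type u} [Group G] [Fintype G] {T : Sylow 3 G}

/-- The induced function before inducing. -/
noncomputable def extPsi (P : Pair G T) (s : Bool) : G → ℂ :=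
  extendByZero P.φ₁.range fun x => (psi s ((MonoidHom.ofInjective P.inj₁).symm x) : ℂ)

theorem symm_range (P : Pair G T) : P.symm.φ₂.range = P.φ₁.range := by
  show (P.φ₁.comp _).range = _
  rw [MonoidHom.range_comp,
    MonoidHom.range_eq_top.mpr (MulAut.conj ((sr 0, sr 0) : D × D)).surjective, ← MonoidHom.range_eq_map]

theorem not_mem_symm' (P : Pair G T) {i j : ZMod 3} :
    P.φ₂ (sr i, r j) ∉ P.φ₁.range ∧ P.φ₂ (r i, sr j) ∉ P.φ₁.range := by
  have := not_mem_symm P.symm (i := i) (j := j)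
  rw [symm_range] at this
  exact this

theorem extPsi_symm_apply (P : Pair G T) (s : Bool) (p : D × D) :
    extPsi P.symm s (P.φ₁ p) = (psi2 s p : ℂ) := by
  obtain ⟨i | i, j | j⟩ := p
  · rw [← conv_spec P (Or.inl ⟨i, j, rfl⟩)]
    exact ext_apply P.symm s _
  · refine (extendByZero_not_mem _ (not_mem_symm P).2).trans ?_
    simp [psi2, bothRot]
  · refine (extendByZero_not_mem _ (not_mem_symm P).1).trans ?_
    simp [psi2, bothRot]
  · rw [← conv_spec P (Or.inr ⟨i, j, rfl⟩)]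
    refine (ext_apply P.symm s _).trans ?_
    simp [psi2, bothRot, psi, conv, ee]

theorem extPsi_apply₂ (P : Pair G T) (s : Bool) (p : D × D) :
    extPsi P s (P.φ₂ p) = (psi3 s p : ℂ) := by
  obtain ⟨i | i, j | j⟩ := p
  · rw [P.rot]
    exact ext_apply P s _
  · rw [extPsi, extendByZero_not_mem _ (not_mem_symm' P).2]
    simp [psi3, bothRot]
  · rw [extPsi, extendByZero_not_mem _ (not_mem_symm' P).1]
    simp [psi3, bothRot]
  · have e : ∀ a b : ZMod 3, ((sr a, sr b) : D × D) = (sr 0, sr 0) * (r a, r b) := by decide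
    have e2 : ∀ a b : ZMod 3, ∃ c d, ((sr 0, sr 0) : D × D) * (r a, r b) = (sr c, sr d) := by decide
    obtain ⟨c, d, hcd⟩ := e2 (i + j) (i - j)
    rw [e, map_mul, P.zz, P.rot, ← map_mul, hcd]
    refine (ext_apply P s _).trans ?_
    simp [psi3, bothRot, psi, ee, ← e]

theorem invol_cases (P : Pair G T) {y : G} (hy : y ∈ normalizer ((T : Subgroup G) : Set G))
    (hyy : y * y = 1) :
    y = 1 ∨ (∃ p ∈ SA, P.φ₁ p = y) ∨ (∃ p ∈ SA, P.φ₂ p = y) ∨ ∃ p ∈ SZ, P.φ₁ p = y := by
  rcases cosets P hy with ⟨q, rfl⟩ | ⟨q, rfl⟩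
  · have key : ∀ q : D × D, q * q = 1 → q = 1 ∨ q ∈ SA ∨ q ∈ SZ := by decide
    rcases key q (P.inj₁ (by rw [map_mul, map_one, hyy])) with rfl | h | h
    · exact Or.inl (map_one _)
    · exact Or.inr (Or.inl ⟨q, h, rfl⟩)
    · exact Or.inr (Or.inr (Or.inr ⟨q, h, rfl⟩))
  · right; right; left
    have hw : (P.φ₂ (1, sr 0))⁻¹ = P.φ₂ (1, sr 0) := inv_eq_of_mul_eq_one_right (w_sq P)
    have hs := P.swap₁ q
    rw [hw] at hs
    have h1 : q.swap * q = 1 := P.inj₁ (by
      rw [map_mul, map_one, ← hs, mul_assoc, hyy])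
    have key : ∀ q : D × D, q.swap * q = 1 → ∃ d : D, q = ((d, 1) : D × D).swap⁻¹ * (d, 1) := by decide
    obtain ⟨d, hd⟩ := key q h1
    have hs' := P.swap₁ (d, 1)
    rw [hw] at hs'
    have heq : P.φ₂ (1, sr 0) * P.φ₁ q = (P.φ₁ (d, 1))⁻¹ * P.φ₂ (1, sr 0) * P.φ₁ (d, 1) := by
      rw [hd, map_mul, map_inv, ← hs', mul_inv_rev, mul_inv_rev, hw]
      rw [← mul_assoc, ← mul_assoc, w_sq, one_mul]
    rw [heq]
    have key3 : ∀ t : D × D, (∃ a b, t = (r a, r b)) → t⁻¹ * (1, sr 0) * t ∈ SA := by decide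
    rcases d with i | i
    · refine ⟨(r (2 * i), r (2 * i))⁻¹ * (1, sr 0) * (r (2 * i), r (2 * i)), key3 _ ⟨_, _, rfl⟩, ?_⟩
      rw [map_mul, map_mul, map_inv, P.rot]
      have key2 : ∀ i : ZMod 3, ((r (2 * i + 2 * i), r (2 * i - 2 * i)) : D × D) = (r i, 1) := by decide
      rw [key2]
    · have e : ∀ i : ZMod 3, ∃ a b : ZMod 3, ((sr i, 1) : D × D) = (1, sr 0) * ((sr 0, sr 0) * (r (a + b), r (a - b))) := by
        decide
      obtain ⟨a, b, hab⟩ := e i
      refine ⟨((sr 0, sr 0) * (r a, r b))⁻¹ * ((1, sr 0) : D × D).swap * ((sr 0, sr 0) * (r a, r b)), ?_, ?_⟩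
      · have key4 : ∀ a b : ZMod 3,
            ((sr 0, sr 0) * (r a, r b))⁻¹ * ((1, sr 0) : D × D).swap * ((sr 0, sr 0) * (r a, r b)) ∈ SA := by
          decide
        exact key4 a b
      · rw [hab, map_mul, map_mul, map_mul, map_inv, map_mul, map_mul, P.zz, P.rot, ← P.swap₂]
        have hb : (P.φ₁ (1, sr 0))⁻¹ = P.φ₁ (1, sr 0) := inv_eq_of_mul_eq_one_right (by
          rw [← map_mul, show ((1, sr 0) * (1, sr 0) : D × D) = 1 by decide, map_one])
        simp only [map_mul, mul_inv_rev, hb, mul_assoc]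

theorem isConj_of_SA (P : Pair G T) {p : D × D} (hp : p ∈ SA) :
    IsConj (P.φ₁ (1, sr 0)) (P.φ₁ p) := by
  have key : ∀ p ∈ SA, ∃ q : D × D, q * (1, sr 0) * q⁻¹ = p ∨ q * (1, sr 0) * q⁻¹ = p.swap := by decide
  obtain ⟨q, hq | hq⟩ := key p hp
  · exact _root_.isConj_iff.mpr ⟨P.φ₁ q, by rw [← map_inv, ← map_mul, ← map_mul, hq]⟩
  · refine _root_.isConj_iff.mpr ⟨P.φ₂ (1, sr 0) * P.φ₁ q, ?_⟩
    have h := P.swap₁ (q * (1, sr 0) * q⁻¹)
    rw [hq, Prod.swap_swap] at h
    rw [← h, ← hq, map_mul P.φ₁ (q * (1, sr 0)) q⁻¹, map_mul P.φ₁ q, map_inv]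
    group

theorem isConj_of_SZ (P : Pair G T) {p : D × D} (hp : p ∈ SZ) :
    IsConj (P.φ₁ (sr 0, sr 0)) (P.φ₁ p) := by
  have key : ∀ p ∈ SZ, ∃ q : D × D, q * (sr 0, sr 0) * q⁻¹ = p := by decide
  obtain ⟨q, hq⟩ := key p hp
  exact _root_.isConj_iff.mpr ⟨P.φ₁ q, by rw [← map_inv, ← map_mul, ← map_mul, hq]⟩

/-- An element of order three commuting with a reflection is conjugate there to a fixed point. -/
theorem three_in_cent (P : Pair G T) (hloc : Loc T) :
    ∀ c : G, c ∈ centralizer {P.φ₁ (1, sr 0)} → c ^ 3 = 1 → ∃ k ∈ centralizer {P.φ₁ (1, sr 0)},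
      ∃ i, k * c * k⁻¹ = P.φ₁ (r i, 1) := by
  classical
  set C := centralizer ({P.φ₁ (1, sr 0)} : Set G) with hC
  have hg : P.φ₁ (r 1, 1) ∈ C := by
    rw [hC, Subgroup.mem_centralizer_singleton_iff, ← map_mul, ← map_mul]
    exact congrArg P.φ₁ (by decide)
  obtain ⟨R, hR⟩ := (IsPGroup.of_card (G := zpowers (⟨_, hg⟩ : C)) (p := 3) (n := 1) (by
    rw [Nat.card_zpowers, Subgroup.orderOf_mk, orderOf_injective _ P.inj₁, pow_one]
    exact orderOf_eq_prime (by decide) (by decide))).exists_le_sylow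
  have hgR := hR (mem_zpowers _)
  have hRT : ∀ c ∈ (R : Subgroup C), ∃ i, (c : G) = P.φ₁ (r i, 1) := by
    intro c hcR
    obtain ⟨W, hW⟩ := (R.isPGroup'.map C.subtype).exists_le_sylow
    obtain ⟨k, hk⟩ := MulAction.exists_smul_eq G W T
    have hkmem : ∀ z ∈ (W : Subgroup G), k * z * k⁻¹ ∈ (T : Subgroup G) := fun z hz => by
      rw [← hk, Sylow.coe_subgroup_smul]
      exact Subgroup.smul_mem_pointwise_smul z (MulAut.conj k) _ hz
    have hcW := hkmem _ (hW ⟨c, hcR, rfl⟩)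
    have hgW := hkmem _ (hW ⟨_, hgR, rfl⟩)
    have hcg : (c : G) * P.φ₁ (r 1, 1) = P.φ₁ (r 1, 1) * c := by
      have e := commT P hcW hgW
      simp only [Subgroup.coe_subtype, mul_assoc, inv_mul_cancel_left] at e
      exact mul_right_cancel (b := k⁻¹) (mul_left_cancel (a := k) (by simpa [mul_assoc] using e))
    have hcN := hloc _ (P.rot_mem 1 0) (fun e => absurd (P.inj₁ (e.trans (map_one _).symm)) (by decide))
      (Subgroup.mem_centralizer_singleton_iff.mpr hcg)
    have hc3 : (c : G) ^ 3 = 1 := by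
      have := cubeT P hcW
      rwa [conj_pow, conj_eq_one_iff] at this
    obtain ⟨i, j, hij⟩ := P.memT _ (mem_T_of_cube P hcN hc3)
    have key : ∀ i j : ZMod 3, ((r i, r j) : D × D) * (1, sr 0) = (1, sr 0) * (r i, r j) → j = 0 := by decide
    obtain rfl := key i j (P.inj₁ (by
      rw [map_mul, map_mul, hij]
      exact Subgroup.mem_centralizer_singleton_iff.mp c.2))
    exact ⟨i, hij.symm⟩
  intro c hcC hc3
  have hcp : IsPGroup 3 (zpowers (⟨c, hcC⟩ : C)) := by
    intro z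
    obtain ⟨k, hk⟩ := mem_zpowers_iff.mp z.2
    refine ⟨1, Subtype.ext (Subtype.ext ?_)⟩
    rw [pow_one]
    show (((z : C) : G)) ^ 3 = 1
    rw [← hk, show (((⟨c, hcC⟩ : C) ^ k : C) : G) = c ^ k from SubgroupClass.coe_zpow _ _, ← zpow_natCast,
      ← zpow_mul, mul_comm, zpow_mul, zpow_natCast, hc3, one_zpow]
  obtain ⟨Q, hQ⟩ := hcp.exists_le_sylow
  obtain ⟨k, hk⟩ := MulAction.exists_smul_eq C Q R
  have hmem : k * ⟨c, hcC⟩ * k⁻¹ ∈ (R : Subgroup C) := by
    rw [← hk, Sylow.coe_subgroup_smul]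
    exact Subgroup.smul_mem_pointwise_smul _ (MulAut.conj k) _ (hQ (mem_zpowers _))
  obtain ⟨i, hi⟩ := hRT _ hmem
  exact ⟨k, k.2, i, hi⟩

theorem not_conj_reflections (P : Pair G T) (hloc : Loc T) :
    ¬ IsConj (P.φ₁ (1, sr 0)) (P.φ₂ (1, sr 0)) := by
  intro h
  obtain ⟨x, hx⟩ := _root_.isConj_iff.mp h
  set c := x * P.φ₁ (r 1, 1) * x⁻¹ with hc
  have hcC : c ∈ centralizer {P.symm.φ₁ (1, sr 0)} := by
    show c ∈ centralizer {P.φ₂ (1, sr 0)}
    rw [Subgroup.mem_centralizer_singleton_iff, ← hx, hc,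
      show x * P.φ₁ (r 1, 1) * x⁻¹ * (x * P.φ₁ (1, sr 0) * x⁻¹) =
        x * (P.φ₁ (r 1, 1) * P.φ₁ (1, sr 0)) * x⁻¹ by group, ← map_mul,
      show ((r 1, 1) * (1, sr 0) : D × D) = (1, sr 0) * (r 1, 1) by decide, map_mul]
    group
  have hc3 : c ^ 3 = 1 := by
    rw [hc, conj_pow, ← map_pow, show ((r 1, 1) : D × D) ^ 3 = 1 by decide, map_one, mul_one, mul_inv_cancel]
  obtain ⟨k, -, i, hi⟩ := three_in_cent P.symm hloc c hcC hc3
  have hi' : k * x * P.φ₁ (r 1, 1) * (k * x)⁻¹ = P.φ₁ (r (i + 0), r (i - 0)) := by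
    rw [← P.rot]
    show _ = P.φ₂ (r i, 1)
    rw [← show k * c * k⁻¹ = P.φ₂ (r i, 1) from hi, hc]
    group
  have hN := mem_N_of_conj P hloc (x := k * x) (P.rot_mem 1 0)
    (fun e => absurd (P.inj₁ (e.trans (map_one _).symm)) (by decide)) (hi' ▸ P.rot_mem _ _)
  rcases cosets P hN with ⟨q, hq⟩ | ⟨q, hq⟩
  · rw [← hq, ← map_inv, ← map_mul, ← map_mul] at hi'
    have key : ∀ (q : D × D) (i : ZMod 3), q * (r 1, 1) * q⁻¹ ≠ (r (i + 0), r (i - 0)) := by decide
    exact key q i (P.inj₁ hi')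
  · have h2 := P.swap₁ (q * (r 1, 1) * q⁻¹)
    rw [map_mul P.φ₁ (q * (r 1, 1)) q⁻¹, map_mul P.φ₁ q, map_inv] at h2
    have hi2 : P.φ₁ (q * (r 1, 1) * q⁻¹).swap = P.φ₁ (r (i + 0), r (i - 0)) := by
      rw [← h2, ← hi', ← hq]; group
    have key : ∀ (q : D × D) (i : ZMod 3), (q * (r 1, 1) * q⁻¹).swap ≠ (r (i + 0), r (i - 0)) := by decide
    exact key q i (P.inj₁ hi2)

/-- The centralizer of a reflection has order twelve times a number congruent to one modulo three. -/
theorem cent_card (P : Pair G T) (hloc : Loc T) :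
    ∃ m : ℕ, Nat.card (centralizer ({P.φ₁ (1, sr 0)} : Set G)) = 12 * m ∧ m % 3 = 1 := by
  classical
  set C := centralizer ({P.φ₁ (1, sr 0)} : Set G) with hC
  have hg : P.φ₁ (r 1, 1) ∈ C := by
    rw [hC, Subgroup.mem_centralizer_singleton_iff, ← map_mul, ← map_mul]
    exact congrArg P.φ₁ (by decide)
  have hcard : Nat.card (zpowers (⟨_, hg⟩ : C)) = 3 := by
    rw [Nat.card_zpowers, Subgroup.orderOf_mk, orderOf_injective _ P.inj₁]
    exact orderOf_eq_prime (by decide) (by decide)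
  obtain ⟨R, hR⟩ := (IsPGroup.of_card (G := zpowers (⟨_, hg⟩ : C)) (p := 3) (n := 1) (by
    rw [hcard, pow_one])).exists_le_sylow
  have hRT : ∀ c ∈ (R : Subgroup C), c ^ 3 = 1 → c ∈ zpowers (⟨_, hg⟩ : C) := by
    intro c hcR hc3
    obtain ⟨W, hW⟩ := (R.isPGroup'.map C.subtype).exists_le_sylow
    obtain ⟨k, hk⟩ := MulAction.exists_smul_eq G W T
    have hkmem : ∀ z ∈ (W : Subgroup G), k * z * k⁻¹ ∈ (T : Subgroup G) := fun z hz => by
      rw [← hk, Sylow.coe_subgroup_smul]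
      exact Subgroup.smul_mem_pointwise_smul z (MulAut.conj k) _ hz
    have hcW := hkmem _ (hW ⟨c, hcR, rfl⟩)
    have hgW := hkmem _ (hW ⟨_, hR (mem_zpowers _), rfl⟩)
    have hcg : (c : G) * P.φ₁ (r 1, 1) = P.φ₁ (r 1, 1) * c := by
      have e := commT P hcW hgW
      simp only [Subgroup.coe_subtype, mul_assoc, inv_mul_cancel_left] at e
      exact mul_right_cancel (b := k⁻¹) (mul_left_cancel (a := k) (by simpa [mul_assoc] using e))
    have hcN := hloc _ (P.rot_mem 1 0) (fun e => absurd (P.inj₁ (e.trans (map_one _).symm)) (by decide))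
      (Subgroup.mem_centralizer_singleton_iff.mpr hcg)
    obtain ⟨i, j, hij⟩ := P.memT _ (mem_T_of_cube P hcN (congrArg Subtype.val hc3 :))
    have key : ∀ i j : ZMod 3, ((r i, r j) : D × D) * (1, sr 0) = (1, sr 0) * (r i, r j) →
        ∃ n : Fin 3, ((r i, r j) : D × D) = (r 1, 1) ^ (n : ℕ) := by decide
    obtain ⟨n, hn⟩ := key i j (P.inj₁ (by
      rw [map_mul, map_mul, hij]
      exact Subgroup.mem_centralizer_singleton_iff.mp c.2))
    refine mem_zpowers_iff.mpr ⟨((n : ℕ) : ℤ), Subtype.ext ?_⟩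
    rw [zpow_natCast, SubmonoidClass.coe_pow, ← map_pow, ← hn, hij]
  have hReq : (R : Subgroup C) = zpowers (⟨_, hg⟩ : C) := by
    refine le_antisymm (fun c hc => hRT c hc ?_) hR
    obtain ⟨W, hW⟩ := (R.isPGroup'.map C.subtype).exists_le_sylow
    obtain ⟨k, hk⟩ := MulAction.exists_smul_eq G W T
    have hmem : k * (c : G) * k⁻¹ ∈ (T : Subgroup G) := by
      rw [← hk, Sylow.coe_subgroup_smul]
      exact Subgroup.smul_mem_pointwise_smul _ (MulAut.conj k) _ (hW ⟨c, hc, rfl⟩)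
    have := cubeT P hmem
    rw [conj_pow, conj_eq_one_iff] at this
    exact Subtype.ext this
  have hnorm : Nat.card (normalizer ((R : Subgroup C) : Set C)) = 12 := by
    let ι : D × Bool → C := fun p => ⟨P.φ₁ (p.1, if p.2 then sr 0 else 1), by
      have key : ∀ (d : D) (b : Bool), ((d, if b then sr 0 else 1) : D × D) * (1, sr 0) =
        (1, sr 0) * (d, if b then sr 0 else 1) := by decide
      rw [hC, Subgroup.mem_centralizer_singleton_iff, ← map_mul, ← map_mul, key]⟩
    have hinj : Function.Injective ι := fun p q e => by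
      have h := P.inj₁ (congrArg Subtype.val e)
      have key : ∀ p q : D × Bool, ((p.1, if p.2 then sr 0 else 1) : D × D) = (q.1, if q.2 then sr 0 else 1) → p = q := by
        decide
      exact key p q h
    have hrange : ∀ c : C, c ∈ normalizer ((R : Subgroup C) : Set C) ↔ c ∈ Set.range ι := by
      intro c
      constructor
      · intro hc
        have h1 := (Subgroup.mem_normalizer_iff.mp hc ⟨_, hg⟩).mp (hR (mem_zpowers _))
        rw [hReq] at h1
        have h1T : (c : G) * P.φ₁ (r 1, 1) * (c : G)⁻¹ ∈ (T : Subgroup G) := by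
          obtain ⟨n, hn⟩ := mem_zpowers_iff.mp h1
          have h2 : P.φ₁ (r 1, 1) ^ n = (c : G) * P.φ₁ (r 1, 1) * (c : G)⁻¹ := by
            rw [← SubgroupClass.coe_zpow (⟨_, hg⟩ : C) n, hn]; rfl
          rw [← h2]
          exact zpow_mem (P.rot_mem 1 0) n
        have hcN := mem_N_of_conj P hloc (P.rot_mem 1 0)
          (fun e => absurd (P.inj₁ (e.trans (map_one _).symm)) (by decide)) h1T
        have hcc := Subgroup.mem_centralizer_singleton_iff.mp c.2
        rcases cosets P hcN with ⟨q, hq⟩ | ⟨q, hq⟩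
        · have key : ∀ q : D × D, q * (1, sr 0) = (1, sr 0) * q →
              ∃ b : Bool, q = (q.1, if b then sr 0 else 1) := by decide
          obtain ⟨b, hb⟩ := key q (P.inj₁ (by rw [map_mul, map_mul, hq]; exact hcc))
          exact ⟨(q.1, b), Subtype.ext (by rw [← hq]; exact congrArg P.φ₁ hb.symm)⟩
        · exfalso
          have h2 := P.swap₁ (q * (1, sr 0) * q⁻¹)
          rw [map_mul P.φ₁ (q * (1, sr 0)) q⁻¹, map_mul P.φ₁ q, map_inv] at h2
          have hi2 : P.φ₁ (q * (1, sr 0) * q⁻¹).swap = P.φ₁ (1, sr 0) := by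
            rw [← h2]
            calc _ = (c : G) * P.φ₁ (1, sr 0) * (c : G)⁻¹ := by rw [← hq]; group
              _ = _ := by rw [hcc]; group
          have key : ∀ q : D × D, (q * (1, sr 0) * q⁻¹).swap ≠ ((1, sr 0) : D × D) := by decide
          exact key q (P.inj₁ hi2)
      · rintro ⟨⟨d, b⟩, rfl⟩
        rw [Subgroup.mem_normalizer_iff]
        have key : ∀ (d : D) (b : Bool) (n : Fin 3), ∃ m : Fin 3,
            ((d, if b then sr 0 else 1) : D × D) * (r 1, 1) ^ (n : ℕ) * (d, if b then sr 0 else 1)⁻¹ =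
              (r 1, 1) ^ (m : ℕ) := by decide
        have hmap : (R : Subgroup C).map (MulAut.conj (ι (d, b))).toMonoidHom ≤ R := by
          rw [hReq, MonoidHom.map_zpowers, zpowers_le]
          obtain ⟨m, hm⟩ := key d b 1
          refine mem_zpowers_iff.mpr ⟨((m : ℕ) : ℤ), Subtype.ext ?_⟩
          rw [zpow_natCast, SubmonoidClass.coe_pow, ← map_pow, ← hm, map_mul, map_mul, map_inv]
          simp [ι]
        have heq := Subgroup.eq_of_le_of_card_ge hmap
          (le_of_eq (Subgroup.card_map_of_injective (MulAut.conj (ι (d, b))).injective).symm)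
        intro y
        refine ⟨fun hy => hmap ⟨y, hy, rfl⟩, fun hy => ?_⟩
        rw [← heq] at hy
        obtain ⟨v, hv, he⟩ := hy
        rwa [(MulAut.conj (ι (d, b))).injective he] at hv
    rw [Nat.card_congr ((Equiv.subtypeEquivRight hrange).trans (Equiv.ofInjective ι hinj).symm),
      Nat.card_prod, DihedralGroup.nat_card, Nat.card_eq_fintype_card (α := Bool), Fintype.card_bool]
  refine ⟨Nat.card (Sylow 3 C), ?_, card_sylow_modEq_one 3 C⟩
  rw [Sylow.card_eq_index_normalizer R, ← hnorm]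
  exact ((normalizer ((R : Subgroup C) : Set C)).card_mul_index).symm

/-- Summing over conjugates. -/
theorem sum_conj_eq (x : G) (F : G → ℂ) [DecidablePred fun a => IsConj x a] :
    ∑ g : G, F (g * x * g⁻¹) = (Nat.card (centralizer ({x} : Set G)) : ℂ) *
      ∑ a ∈ Finset.univ.filter (fun a => IsConj x a), F a := by
  classical
  rw [← Finset.sum_fiberwise_of_maps_to (g := fun g : G => g * x * g⁻¹)
    (t := Finset.univ.filter fun a => IsConj x a)
    (fun g _ => by simp only [Finset.mem_filter, Finset.mem_univ, true_and]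
                   exact _root_.isConj_iff.mpr ⟨g, rfl⟩), Finset.mul_sum]
  refine Finset.sum_congr rfl fun a ha => ?_
  rw [Finset.sum_congr rfl fun g hg => congrArg F (Finset.mem_filter.mp hg).2, Finset.sum_const,
    nsmul_eq_mul, SCThree.card_conj_fiber x (· = a)]
  simp only [Finset.mem_filter, Finset.mem_univ, true_and] at ha
  have : Nat.card {u : G // IsConj x u ∧ u = a} = 1 :=
    Nat.card_eq_one_iff_unique.mpr ⟨⟨fun u v => Subtype.ext (u.2.2.trans v.2.2.symm)⟩, ⟨⟨a, ha, rfl⟩⟩⟩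
  rw [this, mul_one]

/-- The class multiplication equation for an induced function and two involutions. -/
theorem class_equation (P : Pair G T) (hloc : Loc T) (s : Bool) {u v : G} (hu : u * u = 1) (hv : v * v = 1)
    (U V : Finset G)
    (hU : ∀ a, a ∈ U ↔ IsConj u a ∧ a ∈ normalizer ((T : Subgroup G) : Set G))
    (hV : ∀ a, a ∈ V ↔ IsConj v a ∧ a ∈ normalizer ((T : Subgroup G) : Set G)) :
    ∑ χ : IrrCharacter G, classInner (Psi P s) χ * (χ : G → ℂ) u * (χ : G → ℂ) v / (χ : G → ℂ) 1 =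
      (Nat.card G : ℂ)⁻¹ * ((36 : ℂ)⁻¹ * ((Nat.card (centralizer ({u} : Set G)) : ℂ) *
        (Nat.card (centralizer ({v} : Set G)) : ℂ) * ∑ a ∈ U, ∑ b ∈ V, extPsi P s (a * b))) := by
  classical
  rw [← Block.sum_classFun_mul_conj (IsGenChar.classFun (isGenChar_Psi P s)) u v]
  congr 1
  have hzero : ∀ a b : G, a * a = 1 → b * b = 1 →
      (a ∉ normalizer ((T : Subgroup G) : Set G) ∨ b ∉ normalizer ((T : Subgroup G) : Set G)) →
      extPsi P s (a * b) = 0 := by
    intro a b ha hb hor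
    by_contra hne
    obtain ⟨q, hq, hpsi⟩ := exists_of_ext_ne P s hne
    rcases hor with h | h
    · refine h (mem_N_of_invert P hloc s hpsi ?_)
      rw [hq, mul_inv_rev, inv_eq_of_mul_eq_one_right ha, inv_eq_of_mul_eq_one_right hb, ← mul_assoc, ha,
        one_mul]
    · refine h (mem_N_of_invert P hloc s hpsi ?_)
      rw [hq, mul_inv_rev, inv_eq_of_mul_eq_one_right ha, inv_eq_of_mul_eq_one_right hb, mul_assoc,
        mul_assoc, hb, mul_one]
  have hinv : ∀ {x a : G}, x * x = 1 → IsConj x a → a * a = 1 := fun {x a} hx ha => by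
    obtain ⟨g, rfl⟩ := _root_.isConj_iff.mp ha
    rw [show g * x * g⁻¹ * (g * x * g⁻¹) = g * (x * x) * g⁻¹ by group, hx, mul_one, mul_inv_cancel]
  show ∑ g : G, (Nat.card P.φ₁.range : ℂ)⁻¹ * ∑ x : G, extPsi P s (x⁻¹ * (u * (g * v * g⁻¹)) * x) = _
  rw [← Finset.mul_sum, card_range, Finset.sum_comm]
  norm_num only
  refine congrArg ((1 / 36 : ℂ) * ·) ?_
  have e1 : ∀ x : G, ∑ g : G, extPsi P s (x⁻¹ * (u * (g * v * g⁻¹)) * x) =
      ∑ y : G, extPsi P s (x⁻¹ * u * x * (y * v * y⁻¹)) := fun x =>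
    Fintype.sum_equiv (Equiv.mulLeft x⁻¹) _ _ fun g => by
      simp only [Equiv.coe_mulLeft]; congr 1; group
  rw [Finset.sum_congr rfl fun x _ => e1 x,
    Fintype.sum_equiv (Equiv.inv G) _ (fun x => ∑ y : G, extPsi P s (x * u * x⁻¹ * (y * v * y⁻¹)))
      (fun x => by simp),
    sum_conj_eq u (fun a => ∑ y : G, extPsi P s (a * (y * v * y⁻¹))), mul_assoc]
  congr 1
  rw [Finset.mul_sum, ← Finset.sum_subset (s₁ := U) (fun a ha => by
    simp only [Finset.mem_filter, Finset.mem_univ, true_and]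
    exact ((hU a).mp ha).1) fun a ha hna => ?_]
  · refine Finset.sum_congr rfl fun a ha => ?_
    rw [sum_conj_eq v (fun b => extPsi P s (a * b))]
    congr 1
    refine (Finset.sum_subset (fun b hb => ?_) fun b hb hnb => ?_).symm
    · simp only [Finset.mem_filter, Finset.mem_univ, true_and]
      exact ((hV b).mp hb).1
    · simp only [Finset.mem_filter, Finset.mem_univ, true_and] at hb
      exact hzero a b (hinv hu ((hU a).mp ha).1) (hinv hv hb) (Or.inr fun h => hnb ((hV b).mpr ⟨hb, h⟩))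
  · simp only [Finset.mem_filter, Finset.mem_univ, true_and] at ha
    exact Finset.sum_eq_zero fun y _ => hzero a _ (hinv hu ha) (hinv hv (_root_.isConj_iff.mpr ⟨y, rfl⟩))
      (Or.inl fun h => hna ((hU a).mpr ⟨ha, h⟩))

end Cfsg.Agent.Fus.NineDihedral
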