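import Mathlib
import Cfsg.Agent.Lib.Fus.NineDihedral.Classes
import Cfsg.Agent.Lib.Fus.NineDihedral.Algebra
import Cfsg.Agent.Lib.Block.KleinFour

/-!
Congruences for the values of an irreducible character at a reflection and at the identity.
-/

set_option autoImplicit false
set_option linter.style.haveILetI false
set_option linter.unusedSectionVars false
set_option linter.unusedVariables false
set_option maxRecDepth 20000

namespace Cfsg.Agent.Fus.NineDihedral

open Subgroup DihedralGroup Cfsg Cfsg.Agent.Char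
open scoped ComplexConjugate

universe u

/-- Which representative a point of the support is conjugate to. -/
def cls : D × D → Fin 3
  | (.r i, _) => if i = 0 then 0 else 1
  | (.sr _, _) => 2

/-- The representatives. -/
def rep : Fin 3 → D × D
  | 0 => (1, .r 1)
  | 1 => (.r 1, .r 1)
  | 2 => (.sr 0, .r 1)

/-- Rotations. -/
def rot : Multiplicative (ZMod 3) →* D where
  toFun i := r i.toAdd
  map_one' := rfl
  map_mul' i j := (r_mul_r _ _).symm

/-- A reflection and the identity. -/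
def flip : Multiplicative (ZMod 2) →* D where
  toFun k := if k = 1 then 1 else sr 0
  map_one' := rfl
  map_mul' := by decide

variable {G : Type u} [Group G] [Fintype G] {T : Sylow 3 G}

/-- The conjugated values of a class function in the first coordinates. -/
noncomputable def cval (P : Pair G T) (f : G → ℂ) (p : D × D) : ℂ := conj (f (P.φ₁ p))

theorem val_conj (P : Pair G T) {f : G → ℂ} (hf : IsClassFunction G f) (p q : D × D) :
    cval P f (q * p * q⁻¹) = cval P f p := by
  rw [cval, cval, map_mul, map_mul, map_inv, IsClass.eq_of_isConj hf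
    (_root_.isConj_iff.mpr ⟨P.φ₁ q, rfl⟩ : IsConj (P.φ₁ p) (P.φ₁ q * P.φ₁ p * (P.φ₁ q)⁻¹))]

theorem val_swap (P : Pair G T) {f : G → ℂ} (hf : IsClassFunction G f) (p : D × D) :
    cval P f p.swap = cval P f p := by
  rw [cval, cval, ← P.swap₁, IsClass.eq_of_isConj hf (_root_.isConj_iff.mpr ⟨P.φ₂ (1, sr 0), rfl⟩ :
    IsConj (P.φ₁ p) (P.φ₂ (1, sr 0) * P.φ₁ p * (P.φ₂ (1, sr 0))⁻¹))]

theorem inner_val (P : Pair G T) (s : Bool) {f : G → ℂ} (hf : IsClassFunction G f) :
    6 * classInner (Psi P s) f = cval P f (1, r 1) + 2 * cval P f (r 1, r 1) +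
      (if s then -3 else 3) * cval P f (sr 0, r 1) := by
  have key : ∀ p : D × D, ee p.2 ≠ 0 → ∃ q : D × D, q * rep (cls p) * q⁻¹ = p := by decide
  have hterm : ∀ p : D × D, (psi s p : ℂ) * conj (f (P.φ₁ p)) = (psi s p : ℂ) * cval P f (rep (cls p)) := by
    intro p
    by_cases h : ee p.2 = 0
    · simp [psi, h]
    · obtain ⟨q, hq⟩ := key p h
      conv_lhs => rw [← hq]
      exact congrArg ((psi s (q * rep (cls p) * q⁻¹) : ℂ) * ·) (val_conj P hf _ q) |>.trans (by rw [hq])
  have hsum : ∀ s : Bool, ∀ k : Fin 3, ∑ p ∈ Finset.univ.filter (fun p => cls p = k), psi s p =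
      if k = 0 then 6 else if k = 1 then 12 else if s then -18 else 18 := by decide
  have h1 : ∀ k : Fin 3, ∑ p ∈ Finset.univ.filter (fun p => cls p = k),
      (psi s p : ℂ) * cval P f (rep (cls p)) =
      ((if k = 0 then 6 else if k = 1 then 12 else if s then -18 else 18 : ℤ) : ℂ) * cval P f (rep k) := by
    intro k
    rw [← hsum s k, Int.cast_sum, Finset.sum_mul]
    exact Finset.sum_congr rfl fun p hp => by rw [(Finset.mem_filter.mp hp).2]
  rw [classInner_Psi P s hf, Finset.sum_congr rfl fun p _ => hterm p,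
    ← Finset.sum_fiberwise Finset.univ cls, Finset.sum_congr rfl fun k _ => h1 k, Fin.sum_univ_three]
  cases s <;> simp [rep] <;> ring

theorem plane_sum (P : Pair G T) (χ : IrrCharacter G) :
    ∃ n : ℤ, cval P χ 1 + 4 * cval P χ (1, r 1) + 4 * cval P χ (r 1, r 1) = 9 * (n : ℂ) := by
  set ι : Multiplicative (ZMod 3) × Multiplicative (ZMod 3) →* G := P.φ₁.comp (rot.prodMap rot)
  obtain ⟨n, hn⟩ := IsGenChar.classInner_int (IsGenChar.of_isCharacter IsChar.one)
    (IsGenChar.comp ι (IsGenChar.of_isCharacter (IsIrr.isCharacter χ.2)))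
  refine ⟨n, ?_⟩
  rw [← hn]
  set k : Multiplicative (ZMod 3) × Multiplicative (ZMod 3) → Fin 3 :=
    fun x => if x = 1 then 0 else if x.1 = 1 ∨ x.2 = 1 then 1 else 2
  have key : ∀ x : Multiplicative (ZMod 3) × Multiplicative (ZMod 3), ∃ q : D × D,
      let t : D × D := if x = 1 then 1 else if x.1 = 1 ∨ x.2 = 1 then (1, r 1) else (r 1, r 1)
      q * t * q⁻¹ = (r x.1.toAdd, r x.2.toAdd) ∨ (q * t * q⁻¹).swap = (r x.1.toAdd, r x.2.toAdd) := by
    decide
  have hterm : ∀ x, (1 : ℂ) * conj ((χ : G → ℂ) (ι x)) =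
      if x = 1 then cval P χ 1 else if x.1 = 1 ∨ x.2 = 1 then cval P χ (1, r 1) else cval P χ (r 1, r 1) := by
    intro x
    have hf : IsClassFunction G (χ : G → ℂ) := IsIrr.classFun χ.2
    have e : (1 : ℂ) * conj ((χ : G → ℂ) (ι x)) = cval P χ (r x.1.toAdd, r x.2.toAdd) := one_mul _
    rw [e]
    obtain ⟨q, hq | hq⟩ := key x
    · rw [← hq, val_conj P hf]; split_ifs <;> rfl
    · rw [← hq, val_swap P hf, val_conj P hf]; split_ifs <;> rfl
  have hc : Nat.card (Multiplicative (ZMod 3) × Multiplicative (ZMod 3)) = 9 := by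
    rw [Nat.card_eq_fintype_card]; rfl
  simp only [classInner, hterm, hc]
  rw [Finset.sum_ite, Finset.sum_ite, Finset.sum_const, Finset.sum_const, Finset.sum_const]
  have c0 : (Finset.univ.filter fun x : Multiplicative (ZMod 3) × Multiplicative (ZMod 3) => x = 1).card = 1 := by
    decide
  have c1 : ((Finset.univ.filter fun x : Multiplicative (ZMod 3) × Multiplicative (ZMod 3) => ¬ x = 1).filter
      fun x => x.1 = 1 ∨ x.2 = 1).card = 4 := by decide
  have c2 : ((Finset.univ.filter fun x : Multiplicative (ZMod 3) × Multiplicative (ZMod 3) => ¬ x = 1).filter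
      fun x => ¬ (x.1 = 1 ∨ x.2 = 1)).card = 4 := by decide
  rw [c0, c1, c2]
  push_cast
  simp only [nsmul_eq_mul]
  push_cast
  ring

theorem reflection_sum (P : Pair G T) (χ : IrrCharacter G) :
    ∃ n : ℤ, cval P χ (1, sr 0) + 2 * cval P χ (sr 0, r 1) = 3 * (n : ℂ) := by
  set ι : Multiplicative (ZMod 3) × Multiplicative (ZMod 2) →* G := P.φ₁.comp (rot.prodMap flip)
  set l : Multiplicative (ZMod 2) →* ℂˣ :=
    { toFun := fun k => if k = 1 then 1 else -1
      map_one' := rfl
      map_mul' := by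
        intro a b
        have key : ∀ a : Multiplicative (ZMod 2), a = 1 ∨ a = Multiplicative.ofAdd 1 := by decide
        rcases key a with rfl | rfl <;> rcases key b with rfl | rfl <;>
          simp [show (Multiplicative.ofAdd (1 : ZMod 2)) ≠ 1 by decide,
            show Multiplicative.ofAdd (1 : ZMod 2) * Multiplicative.ofAdd 1 = 1 by decide] }
  have hg := IsGenChar.comp ι (IsGenChar.of_isCharacter (IsIrr.isCharacter χ.2))
  obtain ⟨n₀, hn₀⟩ := IsGenChar.classInner_int (IsGenChar.of_isCharacter IsChar.one) hg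
  obtain ⟨n₁, hn₁⟩ := IsGenChar.classInner_int (IsGenChar.comp
    (MonoidHom.snd (Multiplicative (ZMod 3)) (Multiplicative (ZMod 2)))
    (IsGenChar.of_isCharacter (IsIrr.isCharacter (isIrr_linear l)))) hg
  refine ⟨n₀ - n₁, ?_⟩
  have hf : IsClassFunction G (χ : G → ℂ) := IsIrr.classFun χ.2
  have key : ∀ i : Multiplicative (ZMod 3), i ≠ 1 →
      ∃ q : D × D, (q * (sr 0, r 1) * q⁻¹).swap = (r i.toAdd, sr 0) := by decide
  have hterm : ∀ x : Multiplicative (ZMod 3) × Multiplicative (ZMod 2),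
      conj ((χ : G → ℂ) (ι x)) - ((l x.2 : ℂˣ) : ℂ) * conj ((χ : G → ℂ) (ι x)) =
        if x.2 = 1 then 0 else if x.1 = 1 then 2 * cval P χ (1, sr 0) else 2 * cval P χ (sr 0, r 1) := by
    intro x
    by_cases h2 : x.2 = 1
    · rw [if_pos h2, h2, map_one, Units.val_one, one_mul, sub_self]
    · have hl : ((l x.2 : ℂˣ) : ℂ) = -1 := by
        show (((if x.2 = 1 then 1 else -1) : ℂˣ) : ℂ) = -1
        rw [if_neg h2]; simp
      have e : conj ((χ : G → ℂ) (ι x)) = cval P χ (r x.1.toAdd, if x.2 = 1 then 1 else sr 0) := rfl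
      rw [hl, if_neg h2, e, if_neg h2, neg_one_mul, sub_neg_eq_add, ← two_mul]
      by_cases h1 : x.1 = 1
      · rw [if_pos h1, h1]; rfl
      · rw [if_neg h1]
        obtain ⟨q, hq⟩ := key x.1 h1
        rw [← hq, val_swap P hf, val_conj P hf]
  have hc : Nat.card (Multiplicative (ZMod 3) × Multiplicative (ZMod 2)) = 6 := by
    rw [Nat.card_eq_fintype_card]; rfl
  simp only [classInner, MonoidHom.coe_snd, one_mul, hc] at hn₀ hn₁
  rw [Int.cast_sub, ← hn₀, ← hn₁, ← mul_sub, ← Finset.sum_sub_distrib, Finset.sum_congr rfl fun x _ => hterm x,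
    Finset.sum_ite, Finset.sum_ite, Finset.sum_const, Finset.sum_const, Finset.sum_const]
  have c1 : ((Finset.univ.filter fun x : Multiplicative (ZMod 3) × Multiplicative (ZMod 2) => ¬ x.2 = 1).filter
      fun x => x.1 = 1).card = 1 := by decide
  have c2 : ((Finset.univ.filter fun x : Multiplicative (ZMod 3) × Multiplicative (ZMod 2) => ¬ x.2 = 1).filter
      fun x => ¬ x.1 = 1).card = 2 := by decide
  rw [c1, c2]
  simp only [nsmul_eq_mul]
  push_cast
  ring

theorem val_eq_int (P : Pair G T) (χ : IrrCharacter G) {p : D × D} {n : ℤ}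
    (h : (χ : G → ℂ) (P.φ₁ p) = n) : cval P χ p = n := by
  rw [cval, h, map_intCast]

/-- The congruences of a column. -/
theorem col_ok (P : Pair G T) (χ : IrrCharacter G) {e f g a b c d : ℤ}
    (he : (χ : G → ℂ) 1 = e) (hf : (χ : G → ℂ) (P.φ₁ (1, sr 0)) = f) (hg : (χ : G → ℂ) (P.φ₂ (1, sr 0)) = g)
    (ha : classInner (Psi P false) χ = a) (hb : classInner (Psi P true) χ = b)
    (hc : classInner (Psi P.symm false) χ = c) (hd : classInner (Psi P.symm true) χ = d) :
    (⟨e, f, g, a, b, c, d⟩ : Col).Ok := by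
  have hcf : IsClassFunction G (χ : G → ℂ) := IsIrr.classFun χ.2
  have iA := inner_val P false hcf
  have iB := inner_val P true hcf
  have iC := inner_val P.symm false hcf
  have iD := inner_val P.symm true hcf
  rw [ha] at iA; rw [hb] at iB; rw [hc] at iC; rw [hd] at iD
  simp only [Bool.false_eq_true, if_false, if_true] at iA iB iC iD
  have h12 : cval P.symm χ (1, r 1) = cval P χ (r 1, r 1) := by
    show conj ((χ : G → ℂ) (P.φ₂ (r 0, r 1))) = _
    rw [P.rot]
    show cval P χ (r (0 + 1), r (0 - 1)) = _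
    rw [show ((r ((0 : ZMod 3) + 1), r ((0 : ZMod 3) - 1)) : D × D) =
      (1, sr 0) * (r 1, r 1) * (1, sr 0)⁻¹ by decide, val_conj P hcf]
  have h21 : cval P.symm χ (r 1, r 1) = cval P χ (1, r 1) := by
    show conj ((χ : G → ℂ) (P.φ₂ (r 1, r 1))) = _
    rw [P.rot]
    show cval P χ (r (1 + 1), r (1 - 1)) = _
    rw [show ((r ((1 : ZMod 3) + 1), r ((1 : ZMod 3) - 1)) : D × D) =
      ((1, sr 0) * (1, r 1) * (1, sr 0)⁻¹ : D × D).swap by decide, val_swap P hcf, val_conj P hcf]
  rw [h12, h21] at iC iD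
  obtain ⟨n, hn⟩ := plane_sum P χ
  rw [val_eq_int P χ (show (χ : G → ℂ) (P.φ₁ 1) = e by rw [map_one]; exact he)] at hn
  obtain ⟨n₁, hn₁⟩ := reflection_sum P χ
  rw [val_eq_int P χ hf] at hn₁
  obtain ⟨n₂, hn₂⟩ := reflection_sum P.symm χ
  rw [val_eq_int P.symm χ (show (χ : G → ℂ) (P.symm.φ₁ (1, sr 0)) = g from hg)] at hn₂
  refine ⟨⟨n, ?_⟩, ⟨n₁ - (a - b), ?_⟩, ⟨n₂ - (c - d), ?_⟩⟩ <;> apply Int.cast_injective (α := ℂ) <;> push_cast
  · linear_combination hn + (2 / 3 : ℂ) * (iA + iB + iC + iD)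
  · linear_combination hn₁ + (iA - iB) / 3
  · linear_combination hn₂ + (iC - iD) / 3

end Cfsg.Agent.Fus.NineDihedral
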