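import Mathlib
import Cfsg.Agent.Lib.Fus.NineDihedral.Columns
import Cfsg.Agent.Lib.Block.Central

/-!
The exceptional data over the rationals: coefficients, inner products and the multiplication sums.
-/

set_option autoImplicit false
set_option linter.style.haveILetI false
set_option linter.unusedSectionVars false
set_option linter.unusedVariables false
set_option maxRecDepth 20000

namespace Cfsg.Agent.Fus.NineDihedral

open Subgroup DihedralGroup Cfsg Cfsg.Agent.Char Cfsg.Agent.Block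
open scoped ComplexConjugate

universe u

variable {G : Type u} [Group G] [Fintype G] {T : Sylow 3 G}

/-- The four functions. -/
noncomputable def fn (P : Pair G T) : Fin 4 → G → ℂ
  | 0 => Psi P false
  | 1 => Psi P true
  | 2 => Psi P.symm false
  | 3 => Psi P.symm true

/-- The prescribed inner products. -/
def innerTable : Fin 4 → Fin 4 → ℤ :=
  ![![4, 1, 2, 2], ![1, 4, 2, 2], ![2, 2, 4, 1], ![2, 2, 1, 4]]

/-- The coefficients of the trivial character. -/
def trivTable : Fin 4 → ℤ := ![1, 0, 1, 0]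

theorem isGenChar_fn (P : Pair G T) (i : Fin 4) : IsGeneralizedCharacter G (fn P i) := by
  fin_cases i <;> exact isGenChar_Psi _ _

theorem fn_inner (P : Pair G T) (hloc : Loc T) (i j : Fin 4) :
    classInner (fn P i) (fn P j) = (innerTable i j : ℂ) := by
  have hsw : ∀ s t, classInner (Psi P.symm s) (Psi P t) = 2 := fun s t => by
    rw [← classInner_conj_symm, inner_cross P hloc t s]
    exact map_ofNat _ 2
  fin_cases i <;> fin_cases j <;>
    simp [fn, innerTable, inner_self P hloc, inner_self P.symm hloc, inner_cross P hloc, hsw]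

theorem fn_one (P : Pair G T) (i : Fin 4) :
    classInner (fn P i) (fun _ => (1 : ℂ)) = (trivTable i : ℂ) := by
  fin_cases i <;> simp [fn, trivTable, inner_one]

theorem fn_zero (P : Pair G T) (i : Fin 4) {y : G} (hy : y ^ 4 = 1) : fn P i y = 0 := by
  fin_cases i <;> exact Psi_eq_zero' _ _ hy

theorem involSq (P : Pair G T) :
    P.φ₁ (1, sr 0) * P.φ₁ (1, sr 0) = 1 ∧ P.φ₂ (1, sr 0) * P.φ₂ (1, sr 0) = 1 := by
  refine ⟨?_, w_sq P⟩
  rw [← map_mul, show ((1, sr 0) * (1, sr 0) : D × D) = 1 by decide, map_one]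

theorem pow_four {x : G} (hx : x * x = 1) : x ^ 4 = 1 := by
  rw [show 4 = 2 * 2 from rfl, pow_mul, pow_two x, hx, one_pow]

theorem exists_columns (P : Pair G T) :
    ∃ col : IrrCharacter G → Col, (∀ χ : IrrCharacter G, (col χ).Ok) ∧
      (∀ χ : IrrCharacter G, (χ : G → ℂ) 1 = ((col χ).e : ℂ) ∧ 0 < (col χ).e) ∧
      (∀ χ : IrrCharacter G, (χ : G → ℂ) (P.φ₁ (1, sr 0)) = ((col χ).f : ℂ)) ∧
      (∀ χ : IrrCharacter G, (χ : G → ℂ) (P.φ₂ (1, sr 0)) = ((col χ).g : ℂ)) ∧
      ∀ (χ : IrrCharacter G) i, classInner (fn P i) χ = ((![(col χ).a, (col χ).b, (col χ).c, (col χ).d] i : ℤ) : ℂ) := by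
  choose f hf using fun χ : IrrCharacter G => Block.char_involution_int χ (involSq P).1
  choose g hg using fun χ : IrrCharacter G => Block.char_involution_int χ (involSq P).2
  choose cc hcc using fun (i : Fin 4) (χ : IrrCharacter G) => IsGenChar.classInner_int (isGenChar_fn P i)
    (IsGenChar.of_isCharacter (IsIrr.isCharacter χ.2))
  refine ⟨fun χ => ⟨(charDegree (χ : G → ℂ) : ℤ), f χ, g χ, cc 0 χ, cc 1 χ, cc 2 χ, cc 3 χ⟩,
    fun χ => ?_, fun χ => ⟨?_, Int.natCast_pos.mpr (Block.charDeg_pos χ)⟩, hf, hg, fun χ i => ?_⟩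
  · exact col_ok P χ (by rw [Int.cast_natCast]; exact Block.charDeg_spec' χ) (hf χ) (hg χ)
      (hcc 0 χ) (hcc 1 χ) (hcc 2 χ) (hcc 3 χ)
  · rw [Int.cast_natCast]; exact Block.charDeg_spec' χ
  · fin_cases i <;> exact hcc _ χ

/-- The class of the second reflection inside the normalizer. -/
def setV : Finset (D × D) := SA

/-- The class of the first reflection inside the normalizer. -/
def setU : Case → Finset (D × D)
  | .distinct => SA
  | .fused => SA ∪ SZ

theorem SZ_conv : ∀ p ∈ SZ, conv p ∈ SZ ∧ ∃ i j, p = (sr i, sr j) := by decide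

theorem SA_shape : ∀ p ∈ SA, (∃ i j, p = (sr i, r j)) ∨ ∃ i j, p = (r i, sr j) := by decide

theorem z_symm (P : Pair G T) : P.symm.φ₁ (sr 0, sr 0) = P.φ₁ (sr 0, sr 0) := P.zz

theorem z_not_range (P : Pair G T) {p : D × D} (hp : p ∈ SA) : P.φ₁ p ∉ P.φ₂.range := by
  rcases SA_shape p hp with ⟨i, j, rfl⟩ | ⟨i, j, rfl⟩
  · exact (not_mem_symm P).1
  · exact (not_mem_symm P).2

theorem z_not_range' (P : Pair G T) {p : D × D} (hp : p ∈ SA) : P.φ₂ p ∉ P.φ₁.range := by
  rcases SA_shape p hp with ⟨i, j, rfl⟩ | ⟨i, j, rfl⟩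
  · exact (not_mem_symm' P).1
  · exact (not_mem_symm' P).2

/-- The case determined by the fusion of the central involution. -/
def HasCase (P : Pair G T) : Case → Prop
  | .distinct => ¬ IsConj (P.φ₁ (1, sr 0)) (P.φ₁ (sr 0, sr 0))
  | .fused => IsConj (P.φ₁ (1, sr 0)) (P.φ₁ (sr 0, sr 0))

open scoped Classical in
theorem class_sets (P : Pair G T) (hloc : Loc T)
    (hz2 : ¬ IsConj (P.φ₂ (1, sr 0)) (P.φ₁ (sr 0, sr 0))) (t : Case) (ht : HasCase P t) :
    (∀ a, a ∈ (setU t).image P.φ₁ ↔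
      IsConj (P.φ₁ (1, sr 0)) a ∧ a ∈ normalizer ((T : Subgroup G) : Set G)) ∧
    ∀ a, a ∈ setV.image P.φ₂ ↔
      IsConj (P.φ₂ (1, sr 0)) a ∧ a ∈ normalizer ((T : Subgroup G) : Set G) := by
  have h12 := not_conj_reflections P hloc
  have h1 : ∀ p ∈ SA, IsConj (P.φ₁ (1, sr 0)) (P.φ₁ p) := fun p hp => isConj_of_SA P hp
  have h2 : ∀ p ∈ SA, IsConj (P.φ₂ (1, sr 0)) (P.φ₂ p) := fun p hp => isConj_of_SA P.symm hp
  have hne : ∀ x : G, x * x = 1 → x ≠ 1 → ∀ a, IsConj x a → a * a = 1 ∧ a ≠ 1 := by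
    intro x hx hx1 a ha
    obtain ⟨g, rfl⟩ := _root_.isConj_iff.mp ha
    exact ⟨by rw [show g * x * g⁻¹ * (g * x * g⁻¹) = g * (x * x) * g⁻¹ by group, hx, mul_one, mul_inv_cancel],
      fun e => hx1 (conj_eq_one_iff.mp e)⟩
  have hu1 : P.φ₁ (1, sr 0) ≠ 1 := fun e => absurd (P.inj₁ (e.trans (map_one _).symm)) (by decide)
  have hv1 : P.φ₂ (1, sr 0) ≠ 1 := fun e => absurd (P.inj₂ (e.trans (map_one _).symm)) (by decide)
  constructor <;> intro a <;> rw [Finset.mem_image]
  · constructor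
    · rintro ⟨p, hp, rfl⟩
      refine ⟨?_, P.le₁ p⟩
      cases t
      · exact h1 p hp
      · rcases Finset.mem_union.mp hp with h | h
        · exact h1 p h
        · exact ht.trans (isConj_of_SZ P h)
    · rintro ⟨ha, haN⟩
      obtain ⟨haa, ha1⟩ := hne _ (involSq P).1 hu1 a ha
      rcases invol_cases P haN haa with e | ⟨p, hp, rfl⟩ | ⟨p, hp, rfl⟩ | ⟨p, hp, rfl⟩
      · exact absurd e ha1
      · exact ⟨p, by cases t <;> simp [setU, hp], rfl⟩
      · exact absurd (ha.trans (h2 p hp).symm) h12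
      · cases t
        · exact absurd (ha.trans (isConj_of_SZ P hp).symm) ht
        · exact ⟨p, Finset.mem_union_right _ hp, rfl⟩
  · constructor
    · rintro ⟨p, hp, rfl⟩
      exact ⟨h2 p hp, P.le₂ p⟩
    · rintro ⟨ha, haN⟩
      obtain ⟨haa, ha1⟩ := hne _ (involSq P).2 hv1 a ha
      rcases invol_cases P haN haa with e | ⟨p, hp, rfl⟩ | ⟨p, hp, rfl⟩ | ⟨p, hp, rfl⟩
      · exact absurd e ha1
      · exact absurd ((h1 p hp).trans ha.symm) h12
      · exact ⟨p, hp, rfl⟩
      · exact absurd (ha.trans (isConj_of_SZ P hp).symm) hz2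

/-- The extension by zero of each of the four functions. -/
noncomputable def extFn (P : Pair G T) : Fin 4 → G → ℂ
  | 0 => extPsi P false
  | 1 => extPsi P true
  | 2 => extPsi P.symm false
  | 3 => extPsi P.symm true

/-- The sums over pairs of class members. -/
def pairTable : Case → Fin 4 → ℤ × ℤ × ℤ
  | .distinct, 0 => (18, 0, 36)
  | .distinct, 1 => (18, 0, 36)
  | .distinct, 2 => (36, 0, 18)
  | .distinct, 3 => (36, 0, 18)
  | .fused, 0 => (288, 0, 36)
  | .fused, 1 => (72, 0, 36)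
  | .fused, 2 => (198, 54, 18)
  | .fused, 3 => (198, -54, 18)

open scoped Classical in
theorem pair_sums (P : Pair G T) (t : Case) (i : Fin 4) :
    (∑ a ∈ (setU t).image P.φ₁, ∑ b ∈ (setU t).image P.φ₁, extFn P i (a * b) = ((pairTable t i).1 : ℂ)) ∧
    (∑ a ∈ (setU t).image P.φ₁, ∑ b ∈ setV.image P.φ₂, extFn P i (a * b) = ((pairTable t i).2.1 : ℂ)) ∧
    (∑ a ∈ setV.image P.φ₂, ∑ b ∈ setV.image P.φ₂, extFn P i (a * b) = ((pairTable t i).2.2 : ℂ)) := by
  have hin1 : ∀ (F : G → ℂ) (A : Finset (D × D)), ∑ a ∈ A.image P.φ₁, F a = ∑ p ∈ A, F (P.φ₁ p) :=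
    fun F A => Finset.sum_image fun x _ y _ h => P.inj₁ h
  have hin2 : ∀ (F : G → ℂ) (A : Finset (D × D)), ∑ a ∈ A.image P.φ₂, F a = ∑ p ∈ A, F (P.φ₂ p) :=
    fun F A => Finset.sum_image fun x _ y _ h => P.inj₂ h
  have hUU : ∀ p q, extFn P i (P.φ₁ p * P.φ₁ q) =
      ((![psi false (p * q), psi true (p * q), psi2 false (p * q), psi2 true (p * q)] i : ℤ) : ℂ) := by
    intro p q
    rw [← map_mul]
    fin_cases i
    · exact ext_apply P false _
    · exact ext_apply P true _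
    · exact extPsi_symm_apply P false _
    · exact extPsi_symm_apply P true _
  have hVV : ∀ p q, extFn P i (P.φ₂ p * P.φ₂ q) =
      ((![psi3 false (p * q), psi3 true (p * q), psi false (p * q), psi true (p * q)] i : ℤ) : ℂ) := by
    intro p q
    rw [← map_mul]
    fin_cases i
    · exact extPsi_apply₂ P false _
    · exact extPsi_apply₂ P true _
    · exact ext_apply P.symm false _
    · exact ext_apply P.symm true _
  have hA : ∀ p ∈ SA, ∀ q ∈ SA, extFn P i (P.φ₁ p * P.φ₂ q) = 0 := by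
    intro p hp q hq
    have h1 : P.φ₁ p * P.φ₂ q ∉ P.φ₁.range := fun h => z_not_range' P hq
      (by simpa using mul_mem (inv_mem (show P.φ₁ p ∈ P.φ₁.range from ⟨p, rfl⟩)) h)
    have h2 : P.φ₁ p * P.φ₂ q ∉ P.φ₂.range := fun h => z_not_range P hp
      (by simpa using mul_mem h (inv_mem (show P.φ₂ q ∈ P.φ₂.range from ⟨q, rfl⟩)))
    fin_cases i
    · show extPsi P false _ = 0
      rw [extPsi, extendByZero_not_mem _ h1]
    · show extPsi P true _ = 0
      rw [extPsi, extendByZero_not_mem _ h1]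
    · show extPsi P.symm false _ = 0
      rw [extPsi]; exact extendByZero_not_mem _ h2
    · show extPsi P.symm true _ = 0
      rw [extPsi]; exact extendByZero_not_mem _ h2
  have hZ : ∀ p ∈ SZ, ∀ q, extFn P i (P.φ₁ p * P.φ₂ q) =
      ((![psi3 false (conv p * q), psi3 true (conv p * q), psi false (conv p * q), psi true (conv p * q)] i : ℤ) : ℂ) := by
    intro p hp q
    obtain ⟨a, b, rfl⟩ := (SZ_conv p hp).2
    rw [← conv_spec P (Or.inr ⟨a, b, rfl⟩), ← map_mul]
    fin_cases i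
    · exact extPsi_apply₂ P false _
    · exact extPsi_apply₂ P true _
    · exact ext_apply P.symm false _
    · exact ext_apply P.symm true _
  have hcross : ∀ p ∈ setU t, ∀ q ∈ setV, extFn P i (P.φ₁ p * P.φ₂ q) =
      ((if p ∈ SZ then ![psi3 false (conv p * q), psi3 true (conv p * q), psi false (conv p * q),
        psi true (conv p * q)] i else 0 : ℤ) : ℂ) := by
    intro p hp q hq
    by_cases hz : p ∈ SZ
    · rw [if_pos hz]; exact hZ p hz q
    · rw [if_neg hz, Int.cast_zero]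
      refine hA p ?_ q hq
      cases t
      · exact hp
      · exact (Finset.mem_union.mp hp).resolve_right hz
  have k1 : ∀ i : Fin 4, ∑ p ∈ setU .distinct, ∑ q ∈ setU .distinct,
      ![psi false (p * q), psi true (p * q), psi2 false (p * q), psi2 true (p * q)] i =
        (pairTable .distinct i).1 := by decide
  have k1' : ∀ i : Fin 4, ∑ p ∈ setU .fused, ∑ q ∈ setU .fused,
      ![psi false (p * q), psi true (p * q), psi2 false (p * q), psi2 true (p * q)] i =
        (pairTable .fused i).1 := by decide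
  have k2 : ∀ i : Fin 4, ∑ p ∈ setU .distinct, ∑ q ∈ setV, (if p ∈ SZ then
      ![psi3 false (conv p * q), psi3 true (conv p * q), psi false (conv p * q), psi true (conv p * q)] i else 0) =
        (pairTable .distinct i).2.1 := by decide
  have k2' : ∀ i : Fin 4, ∑ p ∈ setU .fused, ∑ q ∈ setV, (if p ∈ SZ then
      ![psi3 false (conv p * q), psi3 true (conv p * q), psi false (conv p * q), psi true (conv p * q)] i else 0) =
        (pairTable .fused i).2.1 := by decide
  have k3 : ∀ i : Fin 4, ∑ p ∈ setV, ∑ q ∈ setV,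
      ![psi3 false (p * q), psi3 true (p * q), psi false (p * q), psi true (p * q)] i =
        (pairTable .distinct i).2.2 := by decide
  have k3' : ∀ i : Fin 4, (pairTable .fused i).2.2 = (pairTable .distinct i).2.2 := by decide
  refine ⟨?_, ?_, ?_⟩
  · rw [hin1, Finset.sum_congr rfl fun p _ => (hin1 _ _).trans (Finset.sum_congr rfl fun q _ => hUU p q)]
    simp only [← Int.cast_sum]
    cases t
    · exact congrArg _ (k1 i)
    · exact congrArg _ (k1' i)
  · rw [hin1, Finset.sum_congr rfl fun p hp => (hin2 _ _).trans (Finset.sum_congr rfl fun q hq => hcross p hp q hq)]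
    simp only [← Int.cast_sum]
    cases t
    · exact congrArg _ (k2 i)
    · exact congrArg _ (k2' i)
  · rw [hin2, Finset.sum_congr rfl fun p _ => (hin2 _ _).trans (Finset.sum_congr rfl fun q _ => hVV p q)]
    simp only [← Int.cast_sum]
    cases t
    · exact congrArg _ (k3 i)
    · exact congrArg _ ((k3 i).trans (k3' i).symm)

theorem fn_equation (P : Pair G T) (hloc : Loc T) (i : Fin 4) {u v : G} (hu : u * u = 1) (hv : v * v = 1)
    (U V : Finset G)
    (hU : ∀ a, a ∈ U ↔ IsConj u a ∧ a ∈ normalizer ((T : Subgroup G) : Set G))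
    (hV : ∀ a, a ∈ V ↔ IsConj v a ∧ a ∈ normalizer ((T : Subgroup G) : Set G)) :
    ∑ χ : IrrCharacter G, classInner (fn P i) χ * (χ : G → ℂ) u * (χ : G → ℂ) v / (χ : G → ℂ) 1 =
      (Nat.card G : ℂ)⁻¹ * ((36 : ℂ)⁻¹ * ((Nat.card (centralizer ({u} : Set G)) : ℂ) *
        (Nat.card (centralizer ({v} : Set G)) : ℂ) * ∑ a ∈ U, ∑ b ∈ V, extFn P i (a * b))) := by
  fin_cases i
  · exact class_equation P hloc false hu hv U V hU hV
  · exact class_equation P hloc true hu hv U V hU hV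
  · exact class_equation P.symm hloc false hu hv U V hU hV
  · exact class_equation P.symm hloc true hu hv U V hU hV

theorem fn_linear (P : Pair G T) (i : Fin 4) {y : G} (hy : y ^ 4 = 1) :
    ∑ χ : IrrCharacter G, classInner (fn P i) χ * (χ : G → ℂ) y = 0 := by
  have h := congrFun (classFunction_expansion (IsGenChar.classFun (isGenChar_fn P i))) y
  rw [fn_zero P i hy, Finset.sum_apply] at h
  exact h.symm

theorem group_scale (P : Pair G T) : ∃ n : ℕ, Nat.card G = 72 * n ∧ n % 3 = 1 := by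
  refine ⟨Nat.card (Sylow 3 G), ?_, card_sylow_modEq_one 3 G⟩
  rw [Sylow.card_eq_index_normalizer T, ← P.card_N]
  exact ((normalizer ((T : Subgroup G) : Set G)).card_mul_index).symm

/-- All the numerical information. -/
theorem exists_data (P : Pair G T) (hloc : Loc T)
    (hz2 : ¬ IsConj (P.φ₂ (1, sr 0)) (P.φ₁ (sr 0, sr 0))) :
    ∃ (t : Case) (σ : Scale) (col : IrrCharacter G → Col),
      (∀ χ : IrrCharacter G, (col χ).Ok) ∧ (∀ χ : IrrCharacter G, (χ : G → ℂ) 1 = ((col χ).e : ℂ) ∧ 0 < (col χ).e) ∧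
      (col (trivialIrr G)).e = 1 ∧ σ.X (col (trivialIrr G)) = 0 ∧ σ.Y (col (trivialIrr G)) = 0 ∧
      (∀ i, ![(col (trivialIrr G)).a, (col (trivialIrr G)).b, (col (trivialIrr G)).c, (col (trivialIrr G)).d] i =
        trivTable i) ∧
      (∀ i j, ∑ χ, ![(col χ).a, (col χ).b, (col χ).c, (col χ).d] i *
        ![(col χ).a, (col χ).b, (col χ).c, (col χ).d] j = innerTable i j) ∧
      (∀ i, ∑ χ, ![(col χ).a, (col χ).b, (col χ).c, (col χ).d] i * (col χ).e = 0) ∧
      (∀ i, ∑ χ, (![(col χ).a, (col χ).b, (col χ).c, (col χ).d] i : ℚ) * σ.X (col χ) = 0) ∧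
      (∀ i, ∑ χ, (![(col χ).a, (col χ).b, (col χ).c, (col χ).d] i : ℚ) * σ.Y (col χ) = 0) ∧
      (∀ i, ∑ χ, (![(col χ).a, (col χ).b, (col χ).c, (col χ).d] i : ℚ) *
        (σ.X (col χ) * σ.X (col χ)) / (col χ).e = (t.gram i).1 / σ.K) ∧
      (∀ i, ∑ χ, (![(col χ).a, (col χ).b, (col χ).c, (col χ).d] i : ℚ) *
        (σ.X (col χ) * σ.Y (col χ)) / (col χ).e = (t.gram i).2.1 / σ.K) ∧
      (∀ i, ∑ χ, (![(col χ).a, (col χ).b, (col χ).c, (col χ).d] i : ℚ) *
        (σ.Y (col χ) * σ.Y (col χ)) / (col χ).e = (t.gram i).2.2 / σ.K) := by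
  classical
  obtain ⟨t, ht⟩ : ∃ t, HasCase P t := by
    by_cases h : IsConj (P.φ₁ (1, sr 0)) (P.φ₁ (sr 0, sr 0))
    · exact ⟨.fused, h⟩
    · exact ⟨.distinct, h⟩
  obtain ⟨col, hok, hdeg, hf, hg, hcoef⟩ := exists_columns P
  obtain ⟨n, hn, hn3⟩ := group_scale P
  obtain ⟨m₁, hm₁, hm₁3⟩ := cent_card P hloc
  obtain ⟨m₂, hm₂, hm₂3⟩ := cent_card P.symm hloc
  change Nat.card (centralizer ({P.φ₂ (1, sr 0)} : Set G)) = 12 * m₂ at hm₂
  have hmod : ∀ m : ℕ, m % 3 = 1 → ((m : ℤ) : ZMod 3) = 1 := fun m hm => by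
    rw [Int.cast_natCast, ← ZMod.natCast_mod, hm, Nat.cast_one]
  let σ : Scale :=
    { k₁ := 4 * m₁
      k₂ := 4 * m₂
      K := 8 * n
      mod₁ := by rw [Int.cast_mul, hmod m₁ hm₁3, mul_one]; rfl
      mod₂ := by rw [Int.cast_mul, hmod m₂ hm₂3, mul_one]; rfl
      modK := by rw [Int.cast_mul, hmod n hn3, mul_one]; rfl }
  obtain ⟨hU, hV⟩ := class_sets P hloc hz2 t ht
  set c : IrrCharacter G → Fin 4 → ℤ := fun χ => ![(col χ).a, (col χ).b, (col χ).c, (col χ).d] with hc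
  have hsum1 : ∀ i, ∑ χ, c χ i * (col χ).e = 0 := fun i => by
    have h := fn_linear P i (y := 1) (one_pow 4)
    simp only [hcoef, (fun χ => (hdeg χ).1)] at h
    apply Int.cast_injective (α := ℂ)
    push_cast
    exact h
  have hlin : ∀ (v : G) (F : IrrCharacter G → ℤ), (∀ χ : IrrCharacter G, (χ : G → ℂ) v = (F χ : ℂ)) → v * v = 1 →
      ∀ i, ∑ χ, c χ i * F χ = 0 := by
    intro v F hF hvv i
    have h := fn_linear P i (y := v) (pow_four hvv)
    simp only [hcoef, hF] at h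
    apply Int.cast_injective (α := ℂ)
    push_cast
    exact h
  have hsumf := hlin _ (fun χ => (col χ).f) hf (involSq P).1
  have hsumg := hlin _ (fun χ => (col χ).g) hg (involSq P).2
  have hquad : ∀ (u v : G) (F F' : IrrCharacter G → ℤ) (k k' : ℕ) (S : ℤ) (U V : Finset G),
      (∀ χ : IrrCharacter G, (χ : G → ℂ) u = (F χ : ℂ)) → (∀ χ : IrrCharacter G, (χ : G → ℂ) v = (F' χ : ℂ)) → u * u = 1 → v * v = 1 →
      (∀ a, a ∈ U ↔ IsConj u a ∧ a ∈ normalizer ((T : Subgroup G) : Set G)) →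
      (∀ a, a ∈ V ↔ IsConj v a ∧ a ∈ normalizer ((T : Subgroup G) : Set G)) →
      Nat.card (centralizer ({u} : Set G)) = 12 * k → Nat.card (centralizer ({v} : Set G)) = 12 * k' →
      0 < k → 0 < k' →
      ∀ i, ∑ a ∈ U, ∑ b ∈ V, extFn P i (a * b) = (S : ℂ) →
      ∑ χ, (c χ i : ℚ) * (((F χ - (col χ).e : ℤ) : ℚ) / (4 * k : ℕ) * (((F' χ - (col χ).e : ℤ) : ℚ) / (4 * k' : ℕ))) /
        (col χ).e = (S : ℚ) / 36 / σ.K := by
    intro u v F F' k k' S U V hF hF' hu hv hU hV hk hk' hk0 hk0' i hS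
    have h := fn_equation P hloc i hu hv U V hU hV
    rw [hS, hk, hk', hn] at h
    simp only [hcoef, hF, hF', (fun χ => (hdeg χ).1)] at h
    have hq : ∑ χ, (c χ i : ℚ) * F χ * F' χ / (col χ).e =
        (72 * n : ℚ)⁻¹ * ((36 : ℚ)⁻¹ * (((12 * k : ℕ) : ℚ) * ((12 * k' : ℕ) : ℚ) * S)) := by
      apply Rat.cast_injective (α := ℂ)
      push_cast at h ⊢
      exact h
    have hexp : ∀ χ : IrrCharacter G,
        (c χ i : ℚ) * (((F χ - (col χ).e : ℤ) : ℚ) / (4 * k : ℕ) * (((F' χ - (col χ).e : ℤ) : ℚ) / (4 * k' : ℕ))) /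
          (col χ).e =
        (((4 * k : ℕ) : ℚ) * ((4 * k' : ℕ) : ℚ))⁻¹ * ((c χ i : ℚ) * F χ * F' χ / (col χ).e -
          ((c χ i * F χ : ℤ) : ℚ) - ((c χ i * F' χ : ℤ) : ℚ) + ((c χ i * (col χ).e : ℤ) : ℚ)) := by
      intro χ
      have he : ((col χ).e : ℚ) ≠ 0 := Int.cast_ne_zero.mpr (hdeg χ).2.ne'
      have hk1 : (k : ℚ) ≠ 0 := Nat.cast_ne_zero.mpr hk0.ne'
      have hk1' : (k' : ℚ) ≠ 0 := Nat.cast_ne_zero.mpr hk0'.ne'
      push_cast
      field_simp
      ring
    rw [Finset.sum_congr rfl fun χ _ => hexp χ, ← Finset.mul_sum, Finset.sum_add_distrib, Finset.sum_sub_distrib,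
      Finset.sum_sub_distrib, ← Int.cast_sum, ← Int.cast_sum, ← Int.cast_sum, hlin u F hF hu, hlin v F' hF' hv,
      hsum1, Int.cast_zero, sub_zero, sub_zero, add_zero, hq]
    have hk1 : (k : ℚ) ≠ 0 := Nat.cast_ne_zero.mpr hk0.ne'
    have hk1' : (k' : ℚ) ≠ 0 := Nat.cast_ne_zero.mpr hk0'.ne'
    have hn0 : (n : ℚ) ≠ 0 := Nat.cast_ne_zero.mpr (by omega)
    show _ = (S : ℚ) / 36 / ((8 * n : ℤ) : ℚ)
    push_cast
    field_simp
    ring
  have hgram : ∀ i, ((pairTable t i).1 : ℚ) / 36 = (t.gram i).1 ∧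
      ((pairTable t i).2.1 : ℚ) / 36 = (t.gram i).2.1 ∧ ((pairTable t i).2.2 : ℚ) / 36 = (t.gram i).2.2 := by
    intro i
    cases t <;> fin_cases i <;> norm_num [pairTable, Case.gram]
  have hXe : ∀ χ, σ.X (col χ) = (((col χ).f - (col χ).e : ℤ) : ℚ) / (4 * m₁ : ℕ) := fun χ => by
    show _ / ((4 * (m₁ : ℤ) : ℤ) : ℚ) = _; push_cast; rfl
  have hYe : ∀ χ, σ.Y (col χ) = (((col χ).g - (col χ).e : ℤ) : ℚ) / (4 * m₂ : ℕ) := fun χ => by
    show _ / ((4 * (m₂ : ℤ) : ℤ) : ℚ) = _; push_cast; rfl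
  have he1 : (col (trivialIrr G)).e = 1 := by
    have := (hdeg (trivialIrr G)).1
    simp only [trivialIrr] at this
    exact_mod_cast this.symm
  have hXlin : ∀ i, ∑ χ, (c χ i : ℚ) * σ.X (col χ) = 0 := fun i => by
    rw [Finset.sum_congr rfl (g := fun χ => ((c χ i * (col χ).f - c χ i * (col χ).e : ℤ) : ℚ) / (4 * m₁ : ℕ))
      fun χ _ => by rw [hXe]; push_cast; ring, ← Finset.sum_div, ← Int.cast_sum, Finset.sum_sub_distrib,
      hsumf, hsum1, sub_self, Int.cast_zero, zero_div]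
  have hYlin : ∀ i, ∑ χ, (c χ i : ℚ) * σ.Y (col χ) = 0 := fun i => by
    rw [Finset.sum_congr rfl (g := fun χ => ((c χ i * (col χ).g - c χ i * (col χ).e : ℤ) : ℚ) / (4 * m₂ : ℕ))
      fun χ _ => by rw [hYe]; push_cast; ring, ← Finset.sum_div, ← Int.cast_sum, Finset.sum_sub_distrib,
      hsumg, hsum1, sub_self, Int.cast_zero, zero_div]
  refine ⟨t, σ, col, hok, hdeg, he1, ?_, ?_, fun i => ?_, fun i j => ?_, hsum1, hXlin, hYlin,
    fun i => ?_, fun i => ?_, fun i => ?_⟩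
  · have := hf (trivialIrr G)
    simp only [trivialIrr] at this
    have hf1 : (col (trivialIrr G)).f = 1 := by exact_mod_cast this.symm
    rw [hXe, hf1, he1]; simp
  · have := hg (trivialIrr G)
    simp only [trivialIrr] at this
    have hg1 : (col (trivialIrr G)).g = 1 := by exact_mod_cast this.symm
    rw [hYe, hg1, he1]; simp
  · exact Int.cast_injective (α := ℂ) ((hcoef (trivialIrr G) i).symm.trans (fn_one P i))
  · apply Int.cast_injective (α := ℂ)
    rw [← fn_inner P hloc i j]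
    conv_rhs => rw [classFunction_expansion (IsGenChar.classFun (isGenChar_fn P i)),
      classFunction_expansion (IsGenChar.classFun (isGenChar_fn P j))]
    rw [classInner_sum_sum]
    simp [hcoef]
  · rw [← (hgram i).1]
    simp only [hXe]
    exact hquad _ _ _ _ m₁ m₁ _ _ _ hf hf (involSq P).1 (involSq P).1 hU hU hm₁ hm₁ (by omega) (by omega)
      i (pair_sums P t i).1
  · rw [← (hgram i).2.1]
    simp only [hXe, hYe]
    exact hquad _ _ _ _ m₁ m₂ _ _ _ hf hg (involSq P).1 (involSq P).2 hU hV hm₁ hm₂ (by omega) (by omega)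
      i (pair_sums P t i).2.1
  · rw [← (hgram i).2.2]
    simp only [hYe]
    exact hquad _ _ _ _ m₂ m₂ _ _ _ hg hg (involSq P).2 (involSq P).2 hV hV hm₂ hm₂ (by omega) (by omega)
      i (pair_sums P t i).2.2

end Cfsg.Agent.Fus.NineDihedral
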