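import Mathlib
import Cfsg.Agent.Lib.Fus.NineDihedral.Equations
import Cfsg.Agent.Lib.Fus.NineDihedral.Config

/-!
A group with a self-centralizing Sylow 3-subgroup of order nine, local centralizers and dihedral
automizer of order eight has a nontrivial linear character.
-/

set_option autoImplicit false
set_option linter.style.haveILetI false
set_option linter.unusedSectionVars false
set_option linter.unusedVariables false

namespace Cfsg.Agent.Fus.NineDihedral

open Subgroup DihedralGroup Cfsg Cfsg.Agent.Char Cfsg.Agent.Block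

universe u

variable {G : Type u} [Group G] [Fintype G] {T : Sylow 3 G}

theorem exists_linear (P : Pair G T) (hloc : Loc T) :
    ∃ χ : IrrCharacter G, χ ≠ trivialIrr G ∧ (χ : G → ℂ) 1 = 1 := by
  classical
  wlog hz2 : ¬ IsConj (P.φ₂ (1, sr 0)) (P.φ₁ (sr 0, sr 0)) generalizing P
  · rw [not_not] at hz2
    refine this P.symm fun h => not_conj_reflections P hloc ?_
    have h' : IsConj (P.φ₁ ((sr 0, sr 0) * (1, sr 0) * (sr 0, sr 0)⁻¹)) (P.φ₂ (sr 0, sr 0)) := h
    rw [show ((sr 0, sr 0) : D × D) * (1, sr 0) * (sr 0, sr 0)⁻¹ = (1, sr 0) by decide, P.zz] at h'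
    exact h'.trans hz2.symm
  obtain ⟨t, σ, col, hok, hdeg, he1, hX1, hY1, htriv, hinner, hlin, hlX, hlY, h11, h12, h22⟩ :=
    exists_data P hloc hz2
  set E := Finset.univ.erase (trivialIrr G) with hE
  have htr : ∀ i, (col (trivialIrr G)).co i = trivTable i := htriv
  have hsplit : ∀ (F : IrrCharacter G → ℚ) (r : ℚ), ∑ χ, F χ = r → F (trivialIrr G) = 0 →
      ∑ χ ∈ E, F χ = r := fun F r h h0 => by
    rw [← h, ← Finset.add_sum_erase _ _ (Finset.mem_univ (trivialIrr G)), h0, zero_add]
  have hdata : Data t σ E col := by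
    refine ⟨fun χ _ => hok χ, fun χ _ => (hdeg χ).2.ne', fun i j => ?_, fun i => ?_, fun i => ?_, fun i => ?_,
      fun i => ?_, fun i => ?_, fun i => ?_⟩
    · have h := hinner i j
      change ∑ χ, (col χ).co i * (col χ).co j = _ at h
      rw [← Finset.add_sum_erase _ _ (Finset.mem_univ (trivialIrr G)), htr, htr] at h
      have key : ∀ i j, innerTable i j = trivTable i * trivTable j + innerE i j := by decide
      rw [key] at h
      exact add_left_cancel h
    · have h := hlin i
      change ∑ χ, (col χ).co i * (col χ).e = _ at h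
      rw [← Finset.add_sum_erase _ _ (Finset.mem_univ (trivialIrr G)), htr, he1, mul_one] at h
      exact eq_neg_of_add_eq_zero_right h
    · exact hsplit _ _ (hlX i) (by simp [hX1])
    · exact hsplit _ _ (hlY i) (by simp [hY1])
    · exact hsplit _ _ (h11 i) (by simp [hX1])
    · exact hsplit _ _ (h12 i) (by simp [hX1])
    · exact hsplit _ _ (h22 i) (by simp [hY1])
  obtain ⟨γ, hγ, he⟩ := (hdata.rescale (fun χ => (col χ).sgn) fun χ _ => Col.sgn_cases _).exists_degree_one
    fun χ _ => Col.norm_scale _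
  refine ⟨γ, (Finset.mem_erase.mp hγ).1, ?_⟩
  have he' : (col γ).sgn * (col γ).e = 1 := he
  have hpos := (hdeg γ).2
  have : (col γ).e = 1 := by
    rcases Col.sgn_cases (col γ) with e | e <;> rw [e] at he' <;> omega
  rw [(hdeg γ).1, this, Int.cast_one]

theorem not_simple (P : Pair G T) (hloc : Loc T) : ¬ IsSimpleGroup G := by
  intro hs
  obtain ⟨χ, hne, h1⟩ := exists_linear P hloc
  obtain ⟨l, hl⟩ := linearHom_of_isCharacter (IsIrr.isCharacter χ.2) h1
  rcases Subgroup.Normal.eq_bot_or_eq_top (show l.ker.Normal from inferInstance) with hb | ht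
  · have hinj : Function.Injective l := (MonoidHom.ker_eq_bot_iff l).mp hb
    have hcomm : P.φ₁ (sr 0, 1) * P.φ₁ (r 1, 1) = P.φ₁ (r 1, 1) * P.φ₁ (sr 0, 1) :=
      hinj (by rw [map_mul, map_mul, mul_comm])
    rw [← map_mul, ← map_mul] at hcomm
    exact absurd (P.inj₁ hcomm) (by decide)
  · refine hne (Subtype.ext ?_)
    rw [hl]
    funext g
    have : l g = 1 := MonoidHom.mem_ker.mp (ht ▸ Subgroup.mem_top g)
    rw [this]
    rfl

end Cfsg.Agent.Fus.NineDihedral
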